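import Cfsg.Agent.Lib.BlockSections.Count
import Cfsg.Agent.Lib.Correspondences.PrincipalBlock
import Cfsg.Agent.Lib.CharTheory.Linear
import Mathlib.GroupTheory.Transfer
import Mathlib.GroupTheory.FiniteAbelian.Duality

/-!
# An abelian Sylow subgroup with fixed-point-free normalizer action: setup

Notation for an abelian Sylow `p`-subgroup `P` on which `N(P)/C(P)` of order `m` acts without
fixed points: the group of induced automorphisms, fusion, the values of the principal block on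
the sections of the elements of `P`, and the Fourier coefficients of these values.
-/

set_option autoImplicit false
set_option linter.unusedSectionVars false
set_option linter.style.haveILetI false

namespace CfsgLib.BlockSections.Exceptional

open Cfsg CfsgLib.CharTheory CfsgLib.Blocks CfsgLib.BrauerCharacters CfsgLib.BlockSections Finset
open scoped ComplexConjugate

variable {G : Type*} [Group G] [Fintype G] {p : ℕ} [hp : Fact p.Prime]

/-- The automorphisms of `P` induced by its normalizer. -/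
def autP (P : Sylow p G) : Subgroup (MulAut (P : Subgroup G)) :=
  (Subgroup.normalizerMonoidHom (P : Subgroup G)).range

/-- The hypotheses on the Sylow subgroup. -/
structure IsFrobSylow (P : Sylow p G) (m : ℕ) : Prop where
  comm : IsMulCommutative (P : Subgroup G)
  index : (Subgroup.centralizer ((P : Subgroup G) : Set G)).relIndex
    (Subgroup.normalizer ((P : Subgroup G) : Set G)) = m
  free : ∀ y : G, y ∈ (P : Subgroup G) → y ≠ 1 →
    Subgroup.centralizer ({y} : Set G) ⊓ Subgroup.normalizer ((P : Subgroup G) : Set G) =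
      Subgroup.centralizer ((P : Subgroup G) : Set G)

theorem mem_autP {P : Sylow p G} {α : MulAut (P : Subgroup G)} :
    α ∈ autP P ↔ ∃ n : G, n ∈ Subgroup.normalizer ((P : Subgroup G) : Set G) ∧
      ∀ w : (P : Subgroup G), (α w : G) = n * w * n⁻¹ := by
  constructor
  · rintro ⟨n, rfl⟩
    exact ⟨n, n.2, fun w => rfl⟩
  · rintro ⟨n, hn, h⟩
    exact ⟨⟨n, hn⟩, MulEquiv.ext fun w => Subtype.ext (h w).symm⟩

/-- `ψ'` is conjugate to `ψ` under the normalizer. -/
def NRel (P : Sylow p G) (ψ ψ' : (P : Subgroup G) →* ℂˣ) : Prop :=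
  ∃ α ∈ autP P, ψ'.comp (α : MulAut (P : Subgroup G)).toMonoidHom = ψ

theorem nRel_iff {P : Sylow p G} {ψ ψ' : (P : Subgroup G) →* ℂˣ} :
    NRel P ψ ψ' ↔ ∃ n : G, n ∈ Subgroup.normalizer ((P : Subgroup G) : Set G) ∧
      ∀ w w' : (P : Subgroup G), (w' : G) = n * w * n⁻¹ → ψ' w' = ψ w := by
  constructor
  · rintro ⟨α, hα, rfl⟩
    obtain ⟨n, hn, h⟩ := mem_autP.1 hα
    refine ⟨n, hn, fun w w' e => ?_⟩
    show ψ' w' = ψ' (α w)
    exact congrArg ψ' (Subtype.ext (e.trans (h w).symm))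
  · rintro ⟨n, hn, h⟩
    refine ⟨Subgroup.normalizerMonoidHom (P : Subgroup G) ⟨n, hn⟩, ⟨_, rfl⟩, MonoidHom.ext fun w => ?_⟩
    exact h w _ rfl

theorem nRel_refl (P : Sylow p G) (ψ : (P : Subgroup G) →* ℂˣ) : NRel P ψ ψ :=
  ⟨1, one_mem _, MonoidHom.ext fun _ => rfl⟩

instance (P : Sylow p G) : Finite ((P : Subgroup G) →* ℂˣ) :=
  Finite.of_injective
    (fun ψ => (⟨fun g => (ψ g : ℂ), isIrrCharacter_linear ψ⟩ : IrrCharacter (P : Subgroup G)))
    fun _ _ e => linear_inj (congrArg Subtype.val e)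

theorem conj_unit {H : Type*} [Group H] [Finite H] (ψ : H →* ℂˣ) (y : H) :
    conj (ψ y : ℂ) = ((ψ⁻¹ : H →* ℂˣ) y : ℂ) := by
  have h : ((ψ y : ℂˣ) : ℂ) ^ orderOf y = 1 := by
    rw [← Units.val_pow_eq_pow_val, ← map_pow, pow_orderOf_eq_one, map_one, Units.val_one]
  rw [MonoidHom.inv_apply, Units.val_inv_eq_inv_val,
    Complex.inv_eq_conj (norm_eq_one_of_pow_eq_one' (orderOf_pos y).ne' h)]

theorem sum_apply_hom {H : Type*} [Group H] [Fintype H] (f : H →* ℂˣ) [Decidable (f = 1)] :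
    ∑ y : H, (f y : ℂ) = if f = 1 then (Fintype.card H : ℂ) else 0 := by
  split_ifs with h
  · subst h; simp
  · refine sum_hom_units_eq_zero ((Units.coeHom ℂ).comp f) fun e => h (MonoidHom.ext fun y => Units.ext ?_)
    exact DFunLike.congr_fun e y

theorem sum_hom_apply {H : Type*} [CommGroup H] [Fintype H] [Fintype (H →* ℂˣ)] (y : H)
    [Decidable (y = 1)] : ∑ ψ : H →* ℂˣ, (ψ y : ℂ) = if y = 1 then (Fintype.card H : ℂ) else 0 := by
  split_ifs with h
  · subst h
    simp only [map_one, Units.val_one, sum_const, card_univ, nsmul_eq_mul, mul_one]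
    rw [← Nat.card_eq_fintype_card, ← Nat.card_eq_fintype_card,
      CommGroup.card_monoidHom_of_hasEnoughRootsOfUnity]
  · obtain ⟨φ, hφ⟩ := CommGroup.exists_apply_ne_one_of_hasEnoughRootsOfUnity H ℂ h
    have e : ∑ ψ : H →* ℂˣ, ((φ * ψ) y : ℂ) = ∑ ψ : H →* ℂˣ, (ψ y : ℂ) :=
      Fintype.sum_equiv (Equiv.mulLeft φ) _ _ fun _ => rfl
    simp only [MonoidHom.mul_apply, Units.val_mul, ← mul_sum] at e
    exact ((mul_left_eq_self₀ (M₀ := ℂ)).1 e).resolve_left fun e1 => hφ (Units.ext e1)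

variable {P : Sylow p G} {m : ℕ} (hF : IsFrobSylow P m)
include hF

theorem card_autP : Nat.card (autP P) = m := by
  rw [autP, ← Subgroup.index_ker, Subgroup.normalizerMonoidHom_ker]
  exact hF.index

theorem autP_free {α : MulAut (P : Subgroup G)} (hα : α ∈ autP P) {y : (P : Subgroup G)}
    (hy : y ≠ 1) (he : α y = y) : α = 1 := by
  obtain ⟨n, hn, h⟩ := mem_autP.1 hα
  have hc : n ∈ Subgroup.centralizer ((P : Subgroup G) : Set G) := by
    rw [← hF.free y y.2 fun e => hy (Subtype.ext e)]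
    refine ⟨Subgroup.mem_centralizer_singleton_iff.2 ?_, hn⟩
    have e : n * (y : G) * n⁻¹ = y := by rw [← h y, he]
    exact mul_inv_eq_iff_eq_mul.1 e
  refine MulEquiv.ext fun w => Subtype.ext ?_
  rw [h w]
  show n * w * n⁻¹ = (w : G)
  rw [← Subgroup.mem_centralizer_iff.1 hc w w.2, mul_inv_cancel_right]

theorem eq_of_autP_apply {α β : MulAut (P : Subgroup G)} (hα : α ∈ autP P) (hβ : β ∈ autP P)
    {y : (P : Subgroup G)} (hy : y ≠ 1) (he : α y = β y) : α = β := by
  refine (inv_mul_eq_one.1 (autP_free hF (mul_mem (inv_mem hβ) hα) hy ?_)).symm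
  show β⁻¹ (α y) = y
  rw [he]
  exact β.symm_apply_apply y

theorem autP_eq_of_nRel {α β : MulAut (P : Subgroup G)} (hα : α ∈ autP P) (hβ : β ∈ autP P)
    {ψ : (P : Subgroup G) →* ℂˣ} (hψ : ψ ≠ 1)
    (he : ψ.comp α.toMonoidHom = ψ.comp β.toMonoidHom) : α = β := by
  haveI := hF.comm
  by_contra hne
  let f : (P : Subgroup G) →* (P : Subgroup G) :=
    { toFun := fun y => (β y)⁻¹ * α y
      map_one' := by simp
      map_mul' := fun a b => by
        rw [map_mul, map_mul, mul_inv_rev, mul_comm' (β b)⁻¹ (β a)⁻¹, mul_assoc,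
          ← mul_assoc (β b)⁻¹, mul_comm' (β b)⁻¹ (α a), mul_assoc, mul_assoc] }
  have hinj : Function.Injective f := (injective_iff_map_eq_one f).2 fun y hy => by
    by_contra h1
    exact hne (eq_of_autP_apply hF hα hβ h1 (inv_mul_eq_one.1 hy).symm)
  refine hψ (MonoidHom.ext fun y => ?_)
  obtain ⟨x, hx⟩ := (Finite.injective_iff_surjective.1 hinj) y
  have h := DFunLike.congr_fun he x
  simp only [MonoidHom.comp_apply, MulEquiv.coe_toMonoidHom] at h
  rw [← hx, show f x = (β x)⁻¹ * α x from rfl, map_mul, map_inv, h, inv_mul_cancel]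
  rfl

theorem nRel_symm {ψ ψ' : (P : Subgroup G) →* ℂˣ} (h : NRel P ψ ψ') : NRel P ψ' ψ := by
  obtain ⟨α, hα, rfl⟩ := h
  exact ⟨α⁻¹, inv_mem hα, MonoidHom.ext fun w => congrArg ψ' (α.apply_symm_apply w)⟩

theorem isConj_iff_autP {y y' : (P : Subgroup G)} :
    IsConj (y : G) y' ↔ ∃ α ∈ autP P, α y = y' := by
  haveI := hF.comm
  constructor
  · intro h
    obtain ⟨c, hc⟩ := isConj_iff.1 h
    obtain ⟨n, hn, he⟩ := P.conj_eq_normalizer_conj_of_mem (y : G) c⁻¹ y.2
      (by rw [inv_inv, hc]; exact y'.2)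
    refine ⟨Subgroup.normalizerMonoidHom (P : Subgroup G) ⟨n⁻¹, inv_mem hn⟩, ⟨_, rfl⟩, Subtype.ext ?_⟩
    show n⁻¹ * y * n⁻¹⁻¹ = (y' : G)
    rw [inv_inv, ← he, inv_inv, hc]
  · rintro ⟨α, hα, rfl⟩
    obtain ⟨n, -, h⟩ := mem_autP.1 hα
    exact isConj_iff.2 ⟨n, (h y).symm⟩

/-- The normal complement in the centralizer of a nontrivial element of `P`. -/
theorem exists_complement {y : G} (hy : y ∈ (P : Subgroup G)) (h1 : y ≠ 1) :
    ∃ O : Subgroup (Subgroup.centralizer ({y} : Set G)), O.Normal ∧ ¬ p ∣ Nat.card O ∧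
      (∀ s, ¬ p ∣ orderOf s ↔ s ∈ O) ∧
      Nat.card O * Nat.card (P : Subgroup G) = Nat.card (Subgroup.centralizer ({y} : Set G)) ∧
      (∀ v : Subgroup.centralizer ({y} : Set G), (v : G) ∈ (P : Subgroup G) → v ∈ O → v = 1) ∧
      (∀ g, ∃ v : Subgroup.centralizer ({y} : Set G), (v : G) ∈ (P : Subgroup G) ∧ v⁻¹ * g ∈ O) := by
  haveI := hF.comm
  have hle : (P : Subgroup G) ≤ Subgroup.centralizer ({y} : Set G) := fun v hv => by
    rw [Subgroup.mem_centralizer_singleton_iff]
    exact congrArg Subtype.val (mul_comm' (⟨v, hv⟩ : (P : Subgroup G)) ⟨y, hy⟩)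
  set V := (P.subtype hle : Sylow p (Subgroup.centralizer ({y} : Set G))) with hV
  have hnc : Subgroup.normalizer (V : Set (Subgroup.centralizer ({y} : Set G))) ≤
      Subgroup.centralizer (V : Set (Subgroup.centralizer ({y} : Set G))) := by
    intro n hn
    have hnN : (n : G) ∈ Subgroup.normalizer ((P : Subgroup G) : Set G) := by
      rw [Subgroup.mem_normalizer_iff]
      intro w
      constructor
      · intro hw
        exact (Subgroup.mem_normalizer_iff.1 hn ⟨w, hle hw⟩).1 hw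
      · intro hw
        have hw' : w ∈ Subgroup.centralizer ({y} : Set G) := by
          have := mul_mem (mul_mem (inv_mem n.2) (hle hw)) n.2
          rwa [show (n : G)⁻¹ * ((n : G) * w * (n : G)⁻¹) * n = w by group] at this
        exact (Subgroup.mem_normalizer_iff.1 hn ⟨w, hw'⟩).2 hw
    have hnC : (n : G) ∈ Subgroup.centralizer ((P : Subgroup G) : Set G) := by
      rw [← hF.free y hy h1]; exact ⟨n.2, hnN⟩
    rw [Subgroup.mem_centralizer_iff]
    exact fun a ha => Subtype.ext (Subgroup.mem_centralizer_iff.1 hnC a ha)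
  have hcomp := MonoidHom.ker_transferSylow_isComplement' V hnc
  set O := (MonoidHom.transferSylow V hnc).ker with hO
  have hOodd : ¬ p ∣ Nat.card O := by
    rw [hO, ← hcomp.index_eq_card]; exact V.not_dvd_index
  have hVcard : Nat.card V = Nat.card (P : Subgroup G) :=
    Nat.card_congr (Subgroup.subgroupOfEquivOfLe hle).toEquiv
  refine ⟨O, inferInstance, hOodd, fun s => ⟨fun h => ?_, fun h hd => hOodd (hd.trans ?_)⟩, ?_,
    fun v hv hvO => ?_, fun g => ?_⟩
  · rw [hO, MonoidHom.mem_ker, ← orderOf_eq_one_iff]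
    obtain ⟨k, hk⟩ := IsPGroup.iff_card.1 V.2
    refine Nat.eq_one_of_dvd_coprimes (a := orderOf s) (b := p ^ k) ?_ (orderOf_map_dvd _ s) ?_
    · exact ((hp.out.coprime_iff_not_dvd).2 h).symm.pow_right k
    · exact (orderOf_dvd_natCard _).trans (dvd_of_eq hk)
  · rw [← Subgroup.orderOf_mk s h]; exact orderOf_dvd_natCard _
  · rw [← hVcard]; exact hcomp.card_mul_card
  · exact (Subgroup.disjoint_def.1 hcomp.disjoint) hvO (show v ∈ (V : Subgroup _) from hv)
  · obtain ⟨⟨⟨o, ho⟩, ⟨v, hv⟩⟩, he, -⟩ := hcomp.existsUnique g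
    refine ⟨v, hv, ?_⟩
    have : o * v = g := he
    rw [← this, ← mul_assoc]
    have hn : (MonoidHom.transferSylow V hnc).ker.Normal := inferInstance
    have h' := hn.conj_mem o ho v⁻¹
    rwa [inv_inv] at h'

variable {M : Ideal AlgInt} [M.IsPrime] (hM : IsPModular p M)
include hM

theorem isPElem {y : G} (hy : y ∈ (P : Subgroup G)) : ∃ k : ℕ, orderOf y = p ^ k := by
  obtain ⟨k, hk⟩ := IsPGroup.iff_card.1 P.2
  obtain ⟨j, -, hj⟩ := (Nat.dvd_prime_pow hp.out).1
    ((Subgroup.orderOf_dvd_natCard _ hy).trans (dvd_of_eq hk))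
  exact ⟨j, hj⟩

theorem secPart_principal_eq {y : G} (hy : y ∈ (P : Subgroup G)) (h1 : y ≠ 1)
    [Fintype (Subgroup.centralizer ({y} : Set G))]
    (χ : IrrCharacter G) {s : Subgroup.centralizer ({y} : Set G)} (hs : ¬ p ∣ orderOf s) :
    secPart y (principalBlock M (Subgroup.centralizer ({y} : Set G))) χ s =
      secPart y (principalBlock M (Subgroup.centralizer ({y} : Set G))) χ 1 := by
  obtain ⟨O, hn, hO, hreg, -⟩ := exists_complement hF hy h1
  haveI := hn
  simp only [secPart]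
  refine sum_congr rfl fun ξ hξ => ?_
  rw [(centralVal_spec ξ (commute_cenElem y)).2 s, (centralVal_spec ξ (commute_cenElem y)).2 1,
    CfsgLib.Correspondences.apply_eq_of_mem_principalBlock hM (mem_blockFinset.1 hξ) O hO
      ((hreg s).1 hs)]

/-- Constancy of the principal block on a section. -/
theorem apply_section {χ : IrrCharacter G} (hχ : χ ∈ principalBlock M G) {z y : G}
    (hz : IsPPart p z y) (hy : y ∈ (P : Subgroup G)) (h1 : y ≠ 1) :
    (χ : G → ℂ) z = (χ : G → ℂ) y := by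
  haveI := Fintype.ofFinite (Subgroup.centralizer ({y} : Set G))
  obtain ⟨u, rfl, huy, -, hu⟩ := hz
  set s : Subgroup.centralizer ({y} : Set G) :=
    ⟨u, Subgroup.mem_centralizer_singleton_iff.2 huy.eq.symm⟩ with hsdef
  have hs : ¬ p ∣ orderOf s := by rwa [← Subgroup.orderOf_coe]
  have hone : ¬ p ∣ orderOf (1 : Subgroup.centralizer ({y} : Set G)) := by
    rw [orderOf_one]; exact hp.out.not_dvd_one
  have e := apply_eq_secPart_principal y (isPElem hF hM hy) hM hχ hs
  rw [secPart_principal_eq hF hM hy h1 χ hs,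
    ← apply_eq_secPart_principal y (isPElem hF hM hy) hM hχ hone, mul_one] at e
  exact e

/-- The principal block of a centralizer has square sum `#P`. -/
theorem sum_principal_sq_eq {y : G} (hy : y ∈ (P : Subgroup G)) (h1 : y ≠ 1) :
    ∑ χ ∈ blockFinset (principalBlock M G), (χ : G → ℂ) y * conj ((χ : G → ℂ) y) =
      (Nat.card (P : Subgroup G) : ℂ) := by
  classical
  haveI := Fintype.ofFinite (Subgroup.centralizer ({y} : Set G))
  rw [sum_principal_sq y (isPElem hF hM hy) hM]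
  set C := Subgroup.centralizer ({y} : Set G)
  set b := principalBlock M C
  obtain ⟨O, hn, hO, hreg, hcard, -⟩ := exists_complement hF hy h1
  haveI := hn
  have hval : ∀ ξ ∈ blockFinset b, ∀ s : C, ¬ p ∣ orderOf s →
      (ξ : C → ℂ) s = (ξ : C → ℂ) 1 := fun ξ hξ s hs =>
    CfsgLib.Correspondences.apply_eq_of_mem_principalBlock hM (mem_blockFinset.1 hξ) O hO
      ((hreg s).1 hs)
  have hdeg : ∀ ξ : IrrCharacter C, (ξ : C → ℂ) 1 = (charDegree (ξ : C → ℂ) : ℂ) :=
    fun ξ => (charDegree_spec ξ).1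
  have hinner : ∀ ξ ∈ blockFinset b, ∀ η ∈ blockFinset b,
      regInner p (ξ : C → ℂ) (η : C → ℂ) =
        (ξ : C → ℂ) 1 * (η : C → ℂ) 1 * (Nat.card (P : Subgroup G) : ℂ)⁻¹ := by
    intro ξ hξ η hη
    rw [regInner, classInner, sum_congr rfl (g := fun s : C =>
      if s ∈ O then (ξ : C → ℂ) 1 * (η : C → ℂ) 1 else 0) (fun s _ => by
        rw [pRegularPart_apply]
        by_cases hs : p ∣ orderOf s
        · rw [if_pos hs, zero_mul, if_neg fun h => (hreg s).2 h hs]
        · rw [if_neg hs, if_pos ((hreg s).1 hs), hval ξ hξ s hs, hval η hη s hs, hdeg η,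
            Complex.conj_natCast])]
    rw [← sum_filter, sum_const, nsmul_eq_mul, ← Fintype.card_subtype, ← Nat.card_eq_fintype_card,
      ← hcard]
    have hO0 : (Nat.card O : ℂ) ≠ 0 := Nat.cast_ne_zero.2 Nat.card_pos.ne'
    push_cast
    erw [mul_inv]
    field_simp
    rfl
  obtain ⟨ξ₀, hξ₀⟩ := isPBlock_nonempty (finite_isPBlock_principalBlock (H := C) M)
  have h := congrFun (pRegularPart_eq_sum_block (weakOrth (p := p) hM
    (finite_isPBlock_principalBlock (H := C) M)) hξ₀) 1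
  rw [pRegularPart_apply, if_neg (by rw [orderOf_one]; exact hp.out.not_dvd_one), Finset.sum_apply,
    sum_congr rfl (fun η hη => by
      rw [Pi.smul_apply, smul_eq_mul, hinner ξ₀ (mem_blockFinset.2 hξ₀) η hη, hdeg η,
        show ∀ a d c : ℂ, a * d * c * d = a * c * d ^ 2 from fun a d c => by ring]),
    ← mul_sum] at h
  have h0 := apply_one_ne_zero_of_isIrr ξ₀.2
  have hq : (Nat.card (P : Subgroup G) : ℂ) ≠ 0 := Nat.cast_ne_zero.2 Nat.card_pos.ne'
  refine mul_left_cancel₀ (mul_ne_zero h0 (inv_ne_zero hq)) ?_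
  refine h.symm.trans ?_
  rw [mul_assoc, inv_mul_cancel₀ hq, mul_one]

theorem isPPart_self {y : G} (hy : y ∈ (P : Subgroup G)) : IsPPart p y y :=
  ⟨1, mul_one y, Commute.one_right y, isPElem hF hM hy, by rw [orderOf_one]; exact hp.out.not_dvd_one⟩

/-- Regular elements are orthogonal to the nontrivial elements of `P`. -/
theorem sum_reg_mul_conj {g y : G} (hg : ¬ p ∣ orderOf g) (hy : y ∈ (P : Subgroup G)) (h1 : y ≠ 1) :
    ∑ χ ∈ blockFinset (principalBlock M G), (χ : G → ℂ) g * conj ((χ : G → ℂ) y) = 0 := by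
  rw [← finsum_mem_eq_sum_blockFinset]
  refine finsum_mul_conj_eq_zero_of_isPBlock hM (finite_isPBlock_principalBlock M) hg ?_
  by_contra h
  exact h1 ((isPPart_eq_one_iff (isPPart_self hF hM hy)).2 h)

open scoped Classical in
/-- Column orthogonality on `P`. -/
theorem sum_mul_conj_eq {y y' : (P : Subgroup G)} (h1 : y ≠ 1) (h1' : y' ≠ 1) :
    ∑ χ ∈ blockFinset (principalBlock M G), (χ : G → ℂ) y * conj ((χ : G → ℂ) y') =
      (Nat.card (P : Subgroup G) : ℂ) *
        ∑ α : autP P, if (α : MulAut (P : Subgroup G)) y = y' then 1 else 0 := by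
  by_cases hc : IsConj (y : G) y'
  · obtain ⟨α, hα, he⟩ := (isConj_iff_autP hF).1 hc
    rw [sum_eq_single (⟨α, hα⟩ : autP P) (fun β _ hne => if_neg fun e => hne (Subtype.ext
      (eq_of_autP_apply hF β.2 hα h1 (e.trans he.symm)))) (by simp), if_pos he, mul_one,
      ← sum_principal_sq_eq hF hM y'.2 (fun e => h1' (Subtype.ext e))]
    obtain ⟨c, hc⟩ := isConj_iff.1 hc
    refine sum_congr rfl fun χ _ => ?_
    rw [← hc, IsIrrCharacter.isClassFunction χ.2 (y : G) c]
  · rw [sum_eq_zero (s := (univ : Finset (autP P))) fun α _ =>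
      if_neg fun e => hc ((isConj_iff_autP hF).2 ⟨α, α.2, e⟩), mul_zero, ← finsum_mem_eq_sum_blockFinset]
    have h := finsum_mul_eq_zero_of_isPBlock hM (finite_isPBlock_principalBlock (H := G) M)
      (isPPart_self hF hM y.2) (isPPart_self hF hM y'.2) hc
    refine Eq.trans (finsum_mem_congr rfl fun χ _ => ?_) h
    rw [IsIrrCharacter.inv χ.2]

end CfsgLib.BlockSections.Exceptional
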