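import Mathlib

/-!
# Integral vectors with the Gram matrix of an exceptional family

Integral vectors whose pairwise inner products are `m + [R a b]` and which are annihilated by a
positive functional are a common vector plus a signed unit vector, the unit vectors separating
exactly the classes of `R`.
-/

set_option autoImplicit false

namespace CfsgLib.BlockSections

open Finset

variable {I Ψ : Type*} [Fintype I]

/-- Norm two and annihilated by a positive functional: a difference of two unit vectors. -/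
theorem exists_single_sub_single [DecidableEq I] (u D : I → ℤ) (hD : ∀ i, 0 < D i)
    (h2 : ∑ i, u i ^ 2 = 2) (h0 : ∑ i, D i * u i = 0) :
    ∃ a b, a ≠ b ∧ ∀ i, u i = (if i = a then 1 else 0) - (if i = b then 1 else 0) := by
  have hne : ∃ i ∈ (univ : Finset I), D i * u i ≠ 0 := by
    by_contra h
    push Not at h
    rw [sum_eq_zero fun i hi => by
      rw [(mul_eq_zero.1 (h i hi)).resolve_left (hD i).ne']; norm_num] at h2
    exact absurd h2 (by norm_num)
  obtain ⟨a, -, ha⟩ := exists_pos_of_sum_zero_of_exists_nonzero _ h0 hne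
  have h0' : ∑ i, -(D i * u i) = 0 := by rw [sum_neg_distrib, h0, neg_zero]
  obtain ⟨b, -, hb⟩ := exists_pos_of_sum_zero_of_exists_nonzero _ h0'
    (by obtain ⟨i, hi, h⟩ := hne; exact ⟨i, hi, neg_ne_zero.2 h⟩)
  have ha' : 0 < u a := pos_of_mul_pos_right ha (hD a).le
  have hb' : u b < 0 := by
    by_contra h
    exact absurd hb (by nlinarith [hD b])
  have hab : a ≠ b := fun e => by rw [e] at ha'; omega
  have hbmem : b ∈ (univ : Finset I).erase a := mem_erase.2 ⟨hab.symm, mem_univ b⟩
  rw [← add_sum_erase _ _ (mem_univ a), ← add_sum_erase _ _ hbmem] at h2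
  have hr : 0 ≤ ∑ i ∈ (univ.erase a).erase b, u i ^ 2 := sum_nonneg fun i _ => sq_nonneg _
  have hua : u a = 1 := by nlinarith
  have hub : u b = -1 := by nlinarith
  have hrest : ∑ i ∈ (univ.erase a).erase b, u i ^ 2 = 0 := by rw [hua, hub] at h2; linarith
  refine ⟨a, b, hab, fun i => ?_⟩
  by_cases hia : i = a
  · rw [hia, if_pos rfl, if_neg hab, hua, sub_zero]
  by_cases hib : i = b
  · rw [hib, if_pos rfl, if_neg hab.symm, hub, zero_sub]
  rw [if_neg hia, if_neg hib, sub_zero]
  exact pow_eq_zero_iff two_ne_zero |>.1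
    ((sum_eq_zero_iff_of_nonneg fun j _ => sq_nonneg (u j)).1 hrest i (by simp [hia, hib]))

variable (v : Ψ → I → ℤ) (D : I → ℤ) (m : ℤ) (R : Ψ → Ψ → Prop) [DecidableRel R]

/-- The structure of the family. -/
theorem exists_star (hD : ∀ i, 0 < D i) (hD0 : ∀ a, ∑ i, D i * v a i = 0) (hrefl : ∀ a, R a a)
    (hG : ∀ a b, ∑ i, v a i * v b i = (if R a b then 1 else 0) + m)
    (h2 : ∃ a b, ¬ R a b) :
    ∃ (w : I → ℤ) (δ d : ℤ) (η : Ψ → I), (δ = 1 ∨ δ = -1) ∧
      (∀ a i, η a = i → v a i = w i + δ) ∧ (∀ a i, η a ≠ i → v a i = w i) ∧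
      (∀ a b, η a = η b ↔ R a b) ∧ (∀ a, w (η a) = -d) ∧ ∑ i, w i ^ 2 - 2 * δ * d = m := by
  classical
  have hsymm : ∀ a b, R a b → R b a := fun a b h => by
    have h1 := hG a b
    have h3 := hG b a
    rw [if_pos h] at h1
    rw [sum_congr rfl (fun i _ => mul_comm (v b i) (v a i)), h1] at h3
    by_contra hn
    rw [if_neg hn] at h3
    omega
  have hdiff : ∀ a b, ∑ i, (v a i - v b i) ^ 2 = 2 - 2 * (if R a b then 1 else 0) := by
    intro a b
    rw [sum_congr rfl (fun i _ => show (v a i - v b i) ^ 2 =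
      v a i * v a i - 2 * (v a i * v b i) + v b i * v b i by ring), sum_add_distrib, sum_sub_distrib,
      ← mul_sum, hG, hG, hG, if_pos (hrefl a), if_pos (hrefl b)]
    ring
  have hR : ∀ a b, R a b ↔ v a = v b := by
    intro a b
    refine ⟨fun h => funext fun i => ?_, fun h => ?_⟩
    · have h1 := hdiff a b
      rw [if_pos h, mul_one, sub_self] at h1
      exact sub_eq_zero.1 (pow_eq_zero_iff two_ne_zero |>.1
        ((sum_eq_zero_iff_of_nonneg fun j _ => sq_nonneg (v a j - v b j)).1 h1 i (mem_univ i)))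
    · by_contra hn
      have h1 := hdiff a b
      rw [if_neg hn, h] at h1
      simp at h1
  have hinner : ∀ a b c, ¬ R a b → ¬ R a c → ¬ R b c →
      ∑ i, (v a i - v b i) * (v a i - v c i) = 1 := by
    intro a b c hab hac hbc
    rw [sum_congr rfl (fun i _ => show (v a i - v b i) * (v a i - v c i) =
      v a i * v a i - v a i * v c i - v b i * v a i + v b i * v c i by ring),
      sum_add_distrib, sum_sub_distrib, sum_sub_distrib, hG, hG, hG, hG, if_pos (hrefl a), if_neg hac,
      if_neg hbc, if_neg fun h => hab (hsymm _ _ h)]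
    ring
  have hform : ∀ a b, ¬ R a b →
      ∃ i j, i ≠ j ∧ ∀ k, v a k - v b k = (if k = i then 1 else 0) - (if k = j then 1 else 0) := by
    intro a b h
    refine exists_single_sub_single _ D hD ?_ ?_
    · rw [hdiff, if_neg h, mul_zero, sub_zero]
    · simp only [mul_sub, sum_sub_distrib, hD0, sub_self]
  have hpair : ∀ (f : I → ℤ) (i j : I),
      ∑ k, ((if k = i then 1 else 0) - (if k = j then 1 else 0)) * f k = f i - f j := by
    intro f i j
    simp [sub_mul, sum_sub_distrib]
  obtain ⟨a₁, a₂, h12⟩ := h2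
  obtain ⟨a, b, hab, he⟩ := hform a₁ a₂ h12
  set L : Ψ → Prop := fun x => ∃ c, ∀ k,
    v x k = v a₁ k - (if k = a then 1 else 0) + (if k = c then 1 else 0) with hL
  set T : Ψ → Prop := fun x => ∃ c, ∀ k,
    v x k = v a₁ k + (if k = b then 1 else 0) - (if k = c then 1 else 0) with hT
  have hLT : ∀ x, L x ∨ T x := by
    intro x
    by_cases h1 : R a₁ x
    · exact Or.inl ⟨a, fun k => by rw [← (hR _ _).1 h1]; ring⟩
    by_cases h2' : R a₂ x
    · exact Or.inl ⟨b, fun k => by rw [← (hR _ _).1 h2']; linarith [he k]⟩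
    obtain ⟨i, j, hij, hx⟩ := hform a₁ x h1
    have h := hinner a₁ a₂ x h12 h1 h2'
    simp only [he, hx] at h
    rw [hpair] at h
    by_cases hi : i = a
    · exact Or.inl ⟨j, fun k => by have := hx k; rw [hi] at this; linarith⟩
    by_cases hj : j = b
    · exact Or.inr ⟨i, fun k => by have := hx k; rw [hj] at this; linarith⟩
    · rw [if_neg (Ne.symm hi), if_neg (Ne.symm hj)] at h
      split_ifs at h <;> omega
  have hall : (∀ x, L x) ∨ (∀ x, T x) := by
    by_contra hn
    push Not at hn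
    obtain ⟨⟨y, hy⟩, ⟨x, hx⟩⟩ := hn
    obtain ⟨c, hc⟩ := (hLT x).resolve_right hx
    obtain ⟨c', hc'⟩ := (hLT y).resolve_left hy
    have hca : c ≠ a := fun e => hx ⟨b, fun k => by rw [hc k, e]; ring⟩
    have hcb : c ≠ b := fun e => hx ⟨a, fun k => by rw [hc k, e]; ring⟩
    have hc'b : c' ≠ b := fun e => hy ⟨a, fun k => by rw [hc' k, e]; ring⟩
    have hc'a : c' ≠ a := fun e => hy ⟨b, fun k => by rw [hc' k, e]; ring⟩
    have hxy : ¬ R x y := fun h => hx ⟨c', fun k => by rw [(hR _ _).1 h, hc' k]⟩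
    have h1x : ¬ R a₁ x := fun h => hx ⟨b, fun k => by rw [← (hR _ _).1 h]; ring⟩
    have h1y : ¬ R a₁ y := fun h => hy ⟨a, fun k => by rw [← (hR _ _).1 h]; ring⟩
    have h := hinner a₁ x y h1x h1y hxy
    have e1 : ∀ k, v a₁ k - v x k = (if k = a then 1 else 0) - (if k = c then 1 else 0) :=
      fun k => by rw [hc k]; ring
    have e2 : ∀ k, v a₁ k - v y k = (if k = c' then 1 else 0) - (if k = b then 1 else 0) :=
      fun k => by rw [hc' k]; ring
    simp only [e1, e2] at h
    rw [hpair, if_neg hc'a.symm, if_neg hab, if_neg hcb] at h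
    split_ifs at h <;> omega
  obtain ⟨w, δ, η, hδ, hv⟩ : ∃ (w : I → ℤ) (δ : ℤ) (η : Ψ → I), (δ = 1 ∨ δ = -1) ∧
      ∀ x k, v x k = w k + δ * (if k = η x then 1 else 0) := by
    rcases hall with h | h
    · choose c hc using h
      exact ⟨fun k => v a₁ k - (if k = a then 1 else 0), 1, c, Or.inl rfl, fun x k => by
        rw [hc x k, one_mul]⟩
    · choose c hc using h
      exact ⟨fun k => v a₁ k + (if k = b then 1 else 0), -1, c, Or.inr rfl, fun x k => by
        rw [hc x k]; ring⟩
  have hδ2 : δ * δ = 1 := by rcases hδ with e | e <;> rw [e] <;> ring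
  have hδ0 : δ ≠ 0 := by rintro rfl; simp at hδ2
  have hv1 : ∀ x i, η x = i → v x i = w i + δ := fun x i e => by rw [hv, if_pos e.symm, mul_one]
  have hv0 : ∀ x i, η x ≠ i → v x i = w i := fun x i e => by
    rw [hv, if_neg (Ne.symm e), mul_zero, add_zero]
  have hnorm : ∀ x, ∑ i, w i ^ 2 + 2 * δ * w (η x) = m := by
    intro x
    have h := hG x x
    rw [if_pos (hrefl x)] at h
    simp only [hv] at h
    rw [sum_congr rfl (fun i _ => show (w i + δ * if i = η x then 1 else 0) *
      (w i + δ * if i = η x then 1 else 0) =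
        w i ^ 2 + (if i = η x then 2 * δ * w i + δ * δ else 0) by split_ifs <;> ring),
      sum_add_distrib, sum_ite_eq' univ (η x), if_pos (mem_univ _), hδ2] at h
    linarith
  refine ⟨w, δ, -w (η a₁), η, hδ, hv1, hv0, fun x y => ?_, fun x => ?_, ?_⟩
  · rw [hR]
    refine ⟨fun e => funext fun k => by rw [hv, hv, e], fun e => ?_⟩
    by_contra hn
    have h := congrFun e (η x)
    rw [hv1 x _ rfl, hv0 y _ (Ne.symm hn)] at h
    omega
  · rw [neg_neg]
    exact mul_left_cancel₀ (mul_ne_zero two_ne_zero hδ0)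
      (add_left_cancel ((hnorm x).trans (hnorm a₁).symm))
  · linarith [hnorm a₁]

end CfsgLib.BlockSections
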