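import Cfsg.Agent.Lib.BlockSections.ExceptionalSetup
import Cfsg.Agent.Lib.BlockSections.StarLemma
import Cfsg.Agent.Lib.BlockLocal.WeakOrth

/-!
# Exceptional characters of the principal block

For an abelian Sylow subgroup `P` with fixed-point-free normalizer action of order `m`, the
principal block splits into rows constant on the nontrivial elements of `P` and an exceptional
family indexed by the orbits of the nontrivial linear characters of `P`.
-/

set_option autoImplicit false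
set_option linter.unusedSectionVars false
set_option linter.style.haveILetI false

namespace CfsgLib.BlockSections.Exceptional

open Cfsg CfsgLib.CharTheory CfsgLib.Blocks CfsgLib.BrauerCharacters CfsgLib.BlockSections Finset
open scoped ComplexConjugate

/-- The structure of the principal block. -/
structure ExcData {G : Type*} [Group G] [Finite G] (p : ℕ) (M : Ideal AlgInt) (P : Sylow p G)
    (m : ℕ) where
  /-- the rows constant on the sections -/
  X : Set (IrrCharacter G)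
  /-- the exceptional family -/
  Y : Set (IrrCharacter G)
  /-- the values of the constant rows -/
  a : IrrCharacter G → ℤ
  /-- the common shift -/
  d : ℤ
  /-- the sign -/
  δ : ℤ
  /-- the map onto the exceptional family -/
  ζ : ((P : Subgroup G) →* ℂˣ) → IrrCharacter G
  union : principalBlock M G = X ∪ Y
  disj : Disjoint X Y
  triv : trivIrr G ∈ X
  a_triv : a (trivIrr G) = 1
  sign : δ = 1 ∨ δ = -1
  a_ne : ∀ χ ∈ X, a χ ≠ 0
  val_X : ∀ χ ∈ X, ∀ z y : G, IsPPart p z y → y ∈ (P : Subgroup G) → y ≠ 1 → (χ : G → ℂ) z = (a χ : ℂ)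
  ζ_mem : ∀ ψ, ψ ≠ 1 → ζ ψ ∈ Y
  ζ_surj : ∀ η ∈ Y, ∃ ψ, ψ ≠ 1 ∧ ζ ψ = η
  ζ_eq : ∀ ψ ψ', ψ ≠ 1 → ψ' ≠ 1 → (ζ ψ' = ζ ψ ↔ NRel P ψ ψ')
  val_Y : ∀ ψ, ψ ≠ 1 → ∀ (z : G) (y : (P : Subgroup G)), IsPPart p z (y : G) → (y : G) ≠ 1 →
    (ζ ψ : G → ℂ) z = (d : ℂ) + (δ : ℂ) * ∑ᶠ ψ' ∈ {ψ' | NRel P ψ ψ'}, ((ψ' y : ℂˣ) : ℂ)
  card_Y : Nat.card Y * m + 1 = Nat.card (P : Subgroup G)
  two_le : 2 ≤ Nat.card Y
  norm : (d - δ) ^ 2 + ((Nat.card Y : ℤ) - 1) * d ^ 2 + ∑ᶠ χ ∈ X, a χ ^ 2 = (m : ℤ) + 1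
  agree : ∀ η ∈ Y, ∀ η' ∈ Y, ∀ g : G, ¬ p ∣ orderOf g → (η : G → ℂ) g = (η' : G → ℂ) g
  reg : ∀ η ∈ Y, ∀ g : G, ¬ p ∣ orderOf g →
    ((Nat.card Y : ℂ) * d - δ) * (η : G → ℂ) g + ∑ᶠ χ ∈ X, (a χ : ℂ) * (χ : G → ℂ) g = 0
  dvd : ∀ χ ∈ X, (Nat.card (P : Subgroup G) : ℤ) ∣ (charDegree (χ : G → ℂ) : ℤ) - a χ

variable {G : Type*} [Group G] [Fintype G] {p : ℕ} [hp : Fact p.Prime] {P : Sylow p G} {m : ℕ}

open scoped Classical in
/-- The difference of the multiplicities of `ψ` and of `1` in the restriction of `χ`. -/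
noncomputable def eInt (P : Sylow p G) (χ : IrrCharacter G) (ψ : (P : Subgroup G) →* ℂˣ) : ℤ :=
  ⌊(classInner (fun y : (P : Subgroup G) => (χ : G → ℂ) y) (fun y => (ψ y : ℂ)) -
    classInner (fun y : (P : Subgroup G) => (χ : G → ℂ) y) (fun _ => (1 : ℂ))).re⌋

open scoped Classical in
theorem exists_mult (P : Sylow p G) (χ : IrrCharacter G) (ψ : (P : Subgroup G) →* ℂˣ) :
    ∃ z : ℤ, classInner (fun y : (P : Subgroup G) => (χ : G → ℂ) y) (fun y => (ψ y : ℂ)) = z :=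
  exists_classInner_eq_int
    (IsCharacter.isGeneralizedCharacter (CfsgLib.Coherence.isCharacter_comp
      (IsIrrCharacter.isCharacter χ.2) (P : Subgroup G).subtype))
    (IsIrrCharacter.isGeneralizedCharacter (isIrrCharacter_linear ψ))

open scoped Classical in
theorem coe_eInt (P : Sylow p G) (χ : IrrCharacter G) (ψ : (P : Subgroup G) →* ℂˣ) :
    (eInt P χ ψ : ℂ) = (Nat.card (P : Subgroup G) : ℂ)⁻¹ *
      ∑ y : (P : Subgroup G), (χ : G → ℂ) y * (conj (ψ y : ℂ) - 1) := by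
  obtain ⟨z, hz⟩ := exists_mult P χ ψ
  obtain ⟨z', hz'⟩ := exists_mult P χ 1
  have h1 : (fun y : (P : Subgroup G) => (((1 : (P : Subgroup G) →* ℂˣ) y : ℂˣ) : ℂ)) =
      fun _ => (1 : ℂ) := rfl
  rw [h1] at hz'
  rw [eInt, hz, hz', ← Int.cast_sub, Complex.intCast_re, Int.floor_intCast, Int.cast_sub, ← hz, ← hz',
    classInner, classInner, ← mul_sub, ← sum_sub_distrib]
  congr 1
  exact sum_congr rfl fun y _ => by rw [map_one, mul_sub]

theorem inv_hom_ne_one {H : Type*} [Group H] {ψ : H →* ℂˣ} (hψ : ψ ≠ 1) : ψ⁻¹ ≠ 1 := fun e =>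
  hψ (MonoidHom.ext fun x => inv_eq_one.1 (DFunLike.congr_fun e x))

variable (hF : IsFrobSylow P m) {M : Ideal AlgInt} [M.IsPrime] (hM : IsPModular p M)
include hF hM

open scoped Classical in
theorem sum_eInt_mul_eInt {ψ ψ' : (P : Subgroup G) →* ℂˣ} (hψ : ψ ≠ 1) (hψ' : ψ' ≠ 1) :
    ∑ χ ∈ blockFinset (principalBlock M G), eInt P χ ψ * eInt P χ ψ' =
      (if NRel P ψ ψ' then 1 else 0) + (m : ℤ) := by
  haveI := hF.comm
  apply Int.cast_injective (α := ℂ)
  push_cast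
  have hq : (Nat.card (P : Subgroup G) : ℂ) ≠ 0 := Nat.cast_ne_zero.2 Nat.card_pos.ne'
  have hconj : ∀ χ, (eInt P χ ψ' : ℂ) = (Nat.card (P : Subgroup G) : ℂ)⁻¹ *
      ∑ y : (P : Subgroup G), conj ((χ : G → ℂ) y) * ((ψ' y : ℂ) - 1) := fun χ => by
    conv_lhs => rw [← map_intCast (starRingEnd ℂ), coe_eInt]
    rw [map_mul, map_inv₀, Complex.conj_natCast, map_sum]
    simp only [map_mul, map_sub, map_one, Complex.conj_conj]
  simp only [coe_eInt P _ ψ, hconj]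
  set q := (Nat.card (P : Subgroup G) : ℂ)
  have hK : ∀ y y' : (P : Subgroup G), (conj (ψ y : ℂ) - 1) * ((ψ' y' : ℂ) - 1) *
      ∑ χ ∈ blockFinset (principalBlock M G), (χ : G → ℂ) y * conj ((χ : G → ℂ) y') =
      (conj (ψ y : ℂ) - 1) * ((ψ' y' : ℂ) - 1) *
        (q * ∑ α : autP P, if (α : MulAut (P : Subgroup G)) y = y' then 1 else 0) := by
    intro y y'
    by_cases h : y = 1
    · simp [h]
    by_cases h' : y' = 1
    · simp [h']
    rw [sum_mul_conj_eq hF hM h h']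
  calc ∑ χ ∈ blockFinset (principalBlock M G),
      q⁻¹ * (∑ y : (P : Subgroup G), (χ : G → ℂ) y * (conj (ψ y : ℂ) - 1)) *
        (q⁻¹ * ∑ y : (P : Subgroup G), conj ((χ : G → ℂ) y) * ((ψ' y : ℂ) - 1))
      = q⁻¹ * q⁻¹ * ∑ y : (P : Subgroup G), ∑ y' : (P : Subgroup G),
          (conj (ψ y : ℂ) - 1) * ((ψ' y' : ℂ) - 1) *
            ∑ χ ∈ blockFinset (principalBlock M G), (χ : G → ℂ) y * conj ((χ : G → ℂ) y') := by
        simp only [mul_sum, sum_mul]
        rw [sum_comm]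
        conv_lhs => arg 2; ext y; rw [sum_comm]
        refine (sum_congr rfl fun y _ => sum_congr rfl fun y' _ => sum_congr rfl fun χ _ => ?_).trans
          sum_comm
        ring
    _ = q⁻¹ * q⁻¹ * ∑ y : (P : Subgroup G), ∑ y' : (P : Subgroup G),
          (conj (ψ y : ℂ) - 1) * ((ψ' y' : ℂ) - 1) *
            (q * ∑ α : autP P, if (α : MulAut (P : Subgroup G)) y = y' then 1 else 0) := by
        simp only [hK]
    _ = q⁻¹ * ∑ α : autP P, ∑ y : (P : Subgroup G),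
          (conj (ψ y : ℂ) - 1) * ((ψ' ((α : MulAut (P : Subgroup G)) y) : ℂ) - 1) := by
        rw [mul_assoc, mul_sum]
        congr 1
        rw [sum_comm (γ := autP P)]
        refine sum_congr rfl fun y _ => ?_
        simp only [mul_sum]
        rw [sum_comm]
        refine sum_congr rfl fun α _ => ?_
        simp only [mul_ite, mul_one, mul_zero]
        rw [sum_ite_eq, if_pos (mem_univ _)]
        field_simp
    _ = _ := by
        have hinner : ∀ α : autP P, ∑ y : (P : Subgroup G),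
            (conj (ψ y : ℂ) - 1) * ((ψ' ((α : MulAut (P : Subgroup G)) y) : ℂ) - 1) =
            q * ((if ψ'.comp (α : MulAut (P : Subgroup G)).toMonoidHom = ψ then 1 else 0) + 1) := by
          intro α
          set φ := ψ'.comp (α : MulAut (P : Subgroup G)).toMonoidHom
          have hφ : φ ≠ 1 := fun e => hψ' (MonoidHom.ext fun w => by
            have := DFunLike.congr_fun e ((α : MulAut (P : Subgroup G)).symm w)
            simpa [φ] using this)
          have e1 : ∀ y, (conj (ψ y : ℂ) - 1) * ((ψ' ((α : MulAut (P : Subgroup G)) y) : ℂ) - 1) =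
              ((ψ⁻¹ * φ) y : ℂ) - ((ψ⁻¹ : _ →* ℂˣ) y : ℂ) - (φ y : ℂ) + 1 := by
            intro y
            rw [MonoidHom.mul_apply, Units.val_mul, conj_unit]
            simp only [φ, MonoidHom.comp_apply, MulEquiv.coe_toMonoidHom]
            ring
          simp only [e1, sum_add_distrib, sum_sub_distrib, sum_apply_hom,
            if_neg (inv_hom_ne_one hψ), if_neg hφ, sum_const, card_univ, nsmul_eq_mul, mul_one]
          rw [show (Fintype.card (P : Subgroup G) : ℂ) = q by simp [q]]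
          by_cases h : φ = ψ
          · rw [if_pos h, if_pos (inv_mul_eq_one.2 h.symm)]; ring
          · rw [if_neg h, if_neg fun e => h (inv_mul_eq_one.1 e).symm]; ring
        simp only [hinner, mul_add, sum_add_distrib, ← mul_sum, ← mul_assoc, inv_mul_cancel₀ hq, one_mul]
        congr 1
        · by_cases h : NRel P ψ ψ'
          · rw [if_pos h]
            obtain ⟨α, hα, he⟩ := h
            rw [sum_eq_single (⟨α, hα⟩ : autP P) (fun β _ hne => if_neg fun e =>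
              hne (Subtype.ext (autP_eq_of_nRel hF β.2 hα hψ' (e.trans he.symm)))) (by simp), if_pos he]
          · rw [if_neg h, sum_eq_zero fun α _ => if_neg fun e => h ⟨α.1, α.2, e⟩]
        · simp [← card_autP hF]

open scoped Classical in
theorem apply_eq_sum_eInt (χ : IrrCharacter G) {y : (P : Subgroup G)} (hy : y ≠ 1)
    [Fintype ((P : Subgroup G) →* ℂˣ)] :
    (χ : G → ℂ) y = ∑ ψ : (P : Subgroup G) →* ℂˣ, (eInt P χ ψ : ℂ) * (ψ y : ℂ) := by
  haveI := hF.comm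
  letI : CommGroup (P : Subgroup G) := { mul_comm := mul_comm' }
  have hq : (Nat.card (P : Subgroup G) : ℂ) ≠ 0 := Nat.cast_ne_zero.2 Nat.card_pos.ne'
  simp only [coe_eInt, mul_sum, sum_mul]
  rw [sum_comm]
  have e : ∀ y' : (P : Subgroup G), ∑ ψ : (P : Subgroup G) →* ℂˣ,
      (Nat.card (P : Subgroup G) : ℂ)⁻¹ * ((χ : G → ℂ) y' * (conj (ψ y' : ℂ) - 1)) * (ψ y : ℂ) =
      if y' = y then (χ : G → ℂ) y' else 0 := by
    intro y'
    have e1 : ∀ ψ : (P : Subgroup G) →* ℂˣ, (conj (ψ y' : ℂ) - 1) * (ψ y : ℂ) =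
        (ψ (y'⁻¹ * y) : ℂ) - (ψ y : ℂ) := fun ψ => by
      rw [conj_unit, map_mul, Units.val_mul, MonoidHom.inv_apply, map_inv]; ring
    rw [sum_congr rfl (fun ψ _ => show _ = (Nat.card (P : Subgroup G) : ℂ)⁻¹ * (χ : G → ℂ) y' *
      ((ψ (y'⁻¹ * y) : ℂ) - (ψ y : ℂ)) by rw [← e1 ψ]; ring), ← mul_sum, sum_sub_distrib,
      sum_hom_apply, sum_hom_apply, if_neg hy, sub_zero]
    simp only [inv_mul_eq_one]
    split_ifs with h
    · rw [← Nat.card_eq_fintype_card]; field_simp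
    · rw [mul_zero]
  simp only [e, sum_ite_eq', mem_univ, if_true]

open scoped Classical in
theorem sum_reg_mul_eInt {g : G} (hg : ¬ p ∣ orderOf g) (ψ : (P : Subgroup G) →* ℂˣ) :
    ∑ χ ∈ blockFinset (principalBlock M G), (χ : G → ℂ) g * (eInt P χ ψ : ℂ) = 0 := by
  have hconj : ∀ χ, (eInt P χ ψ : ℂ) = (Nat.card (P : Subgroup G) : ℂ)⁻¹ *
      ∑ y : (P : Subgroup G), conj ((χ : G → ℂ) y) * ((ψ y : ℂ) - 1) := fun χ => by
    conv_lhs => rw [← map_intCast (starRingEnd ℂ), coe_eInt]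
    rw [map_mul, map_inv₀, Complex.conj_natCast, map_sum]
    simp only [map_mul, map_sub, map_one, Complex.conj_conj]
  simp only [hconj, mul_sum]
  rw [sum_comm]
  refine sum_eq_zero fun y _ => ?_
  by_cases h : y = 1
  · simp [h]
  rw [sum_congr rfl (fun (χ : IrrCharacter G) _ => show (χ : G → ℂ) g * ((Nat.card (P : Subgroup G) : ℂ)⁻¹ *
      (conj ((χ : G → ℂ) y) * ((ψ y : ℂ) - 1))) = (Nat.card (P : Subgroup G) : ℂ)⁻¹ * ((ψ y : ℂ) - 1) *
    ((χ : G → ℂ) g * conj ((χ : G → ℂ) y)) by ring), ← mul_sum,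
    sum_reg_mul_conj hF hM hg y.2 (fun e => h (Subtype.ext e)), mul_zero]

open scoped Classical in
theorem eInt_triv {ψ : (P : Subgroup G) →* ℂˣ} (hψ : ψ ≠ 1) : eInt P (trivIrr G) ψ = -1 := by
  apply Int.cast_injective (α := ℂ)
  have hq : (Nat.card (P : Subgroup G) : ℂ) ≠ 0 := Nat.cast_ne_zero.2 Nat.card_pos.ne'
  rw [coe_eInt]
  simp only [trivIrr_apply, one_mul, conj_unit, sum_sub_distrib, sum_apply_hom,
    if_neg (inv_hom_ne_one hψ)]
  simp

/-- A member of the block that is constant on `P#` has degree congruent to that constant. -/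
theorem dvd_degree_sub (χ : IrrCharacter G) {a : ℤ}
    (ha : ∀ y : (P : Subgroup G), y ≠ 1 → (χ : G → ℂ) y = (a : ℂ)) :
    (Nat.card (P : Subgroup G) : ℤ) ∣ (charDegree (χ : G → ℂ) : ℤ) - a := by
  classical
  obtain ⟨z, hz⟩ := exists_mult P χ 1
  refine ⟨z - a, Int.cast_injective (α := ℂ) ?_⟩
  have hq : (Nat.card (P : Subgroup G) : ℂ) ≠ 0 := Nat.cast_ne_zero.2 Nat.card_pos.ne'
  rw [classInner, sum_congr rfl (g := fun y : (P : Subgroup G) => (a : ℂ) +
      if y = 1 then ((χ : G → ℂ) 1 - a) else 0) (fun y _ => by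
    by_cases h : y = 1
    · subst h; simp
    · rw [if_neg h, ha y h, add_zero, MonoidHom.one_apply, Units.val_one, map_one, mul_one]),
    sum_add_distrib, sum_ite_eq', if_pos (mem_univ _), sum_const, card_univ, nsmul_eq_mul,
    ← Nat.card_eq_fintype_card, inv_mul_eq_iff_eq_mul₀ hq, (charDegree_spec χ).1] at hz
  push_cast
  linear_combination hz

/-- Brauer's structure theorem for the principal block. -/
theorem exists_excData (hm1 : 1 < m) (hm2 : m + 1 < Nat.card (P : Subgroup G)) :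
    Nonempty (ExcData p M P m) := by
  classical
  haveI := hF.comm
  letI : CommGroup (P : Subgroup G) := { mul_comm := mul_comm' }
  haveI := Fintype.ofFinite (IrrCharacter G)
  haveI := Fintype.ofFinite ((P : Subgroup G) →* ℂˣ)
  set B := principalBlock M G with hBdef
  set q := Nat.card (P : Subgroup G) with hqdef
  have hB : IsPBlock M B := finite_isPBlock_principalBlock M
  have hcardΨ : Fintype.card ((P : Subgroup G) →* ℂˣ) = q := by
    rw [← Nat.card_eq_fintype_card]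
    exact CommGroup.card_monoidHom_of_hasEnoughRootsOfUnity (P : Subgroup G) ℂ
  -- the orbits
  have horb : ∀ ψ : (P : Subgroup G) →* ℂˣ, ψ ≠ 1 → (univ.filter (NRel P ψ)).card = m := by
    intro ψ hψ
    rw [← card_autP hF, ← Fintype.card_subtype, ← Nat.card_eq_fintype_card]
    symm
    refine Nat.card_congr (Equiv.ofBijective (fun α : autP P =>
      (⟨ψ.comp (α : MulAut (P : Subgroup G)).toMonoidHom,
        ⟨(α : MulAut (P : Subgroup G))⁻¹, inv_mem α.2, MonoidHom.ext fun w =>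
          congrArg ψ ((α : MulAut (P : Subgroup G)).apply_symm_apply w)⟩⟩ :
        {ψ' // NRel P ψ ψ'})) ⟨fun α β e => Subtype.ext (autP_eq_of_nRel hF α.2 β.2 hψ
          (congrArg Subtype.val e)), fun ⟨ψ', α, hα, he⟩ => ⟨⟨α⁻¹, inv_mem hα⟩, Subtype.ext ?_⟩⟩)
    subst he
    exact MonoidHom.ext fun w => congrArg ψ' (α.apply_symm_apply w)
  have hrel1 : ∀ ψ ψ' : (P : Subgroup G) →* ℂˣ, ψ ≠ 1 → NRel P ψ ψ' → ψ' ≠ 1 := by
    rintro ψ ψ' hψ ⟨α, -, rfl⟩ rfl
    exact hψ (MonoidHom.ext fun _ => rfl)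
  have hex : ∃ a b : {ψ : (P : Subgroup G) →* ℂˣ // ψ ≠ 1}, ¬ NRel P a.1 b.1 := by
    obtain ⟨ψ₀, hψ₀⟩ : ∃ ψ₀ : (P : Subgroup G) →* ℂˣ, ψ₀ ≠ 1 := by
      haveI : Nontrivial ((P : Subgroup G) →* ℂˣ) := Fintype.one_lt_card_iff_nontrivial.1 (by omega)
      exact exists_ne 1
    by_contra h
    push Not at h
    have hsub : (univ.erase (1 : (P : Subgroup G) →* ℂˣ)) ⊆ univ.filter (NRel P ψ₀) := fun ψ hψ =>
      mem_filter.2 ⟨mem_univ _, h ⟨ψ₀, hψ₀⟩ ⟨ψ, (mem_erase.1 hψ).1⟩⟩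
    have := card_le_card hsub
    rw [card_erase_of_mem (mem_univ _), card_univ, hcardΨ, horb ψ₀ hψ₀] at this
    omega
  -- the star lemma
  obtain ⟨w, δ, d, η, hδ, hv1, hv0, hη, hwη, hnorm⟩ := exists_star
    (I := {χ // χ ∈ blockFinset B}) (Ψ := {ψ : (P : Subgroup G) →* ℂˣ // ψ ≠ 1})
    (fun ψ χ => eInt P χ.1 ψ.1) (fun χ => (charDegree (χ.1 : G → ℂ) : ℤ)) m
    (fun a b => NRel P a.1 b.1) (fun χ => Int.natCast_pos.2 (charDegree_spec χ.1).2.1)
    (fun ψ => by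
      rw [sum_coe_sort (blockFinset B) (fun χ => (charDegree (χ : G → ℂ) : ℤ) * eInt P χ ψ.1)]
      apply Int.cast_injective (α := ℂ)
      push_cast
      rw [← sum_reg_mul_eInt hF hM (g := (1 : G)) (by rw [orderOf_one]; exact hp.out.not_dvd_one) ψ.1]
      exact sum_congr rfl fun χ _ => by rw [(charDegree_spec χ).1])
    (fun ψ => nRel_refl P _) (fun a b => by
      rw [← sum_eInt_mul_eInt hF hM a.2 b.2]
      exact sum_coe_sort (blockFinset B) fun χ => eInt P χ a.1 * eInt P χ b.1) hex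
  have hδ2 : δ * δ = 1 := by rcases hδ with e | e <;> rw [e] <;> ring
  set a : IrrCharacter G → ℤ := fun χ => if h : χ ∈ blockFinset B then -w ⟨χ, h⟩ else 0 with hadef
  set ζ : ((P : Subgroup G) →* ℂˣ) → IrrCharacter G :=
    fun ψ => if h : ψ ≠ 1 then (η ⟨ψ, h⟩).1 else trivIrr G with hζdef
  have hζ : ∀ ψ (h : ψ ≠ 1), ζ ψ = (η ⟨ψ, h⟩).1 := fun ψ h => dif_pos h
  set YF := (univ : Finset {ψ : (P : Subgroup G) →* ℂˣ // ψ ≠ 1}).image fun ψ => (η ψ).1 with hYF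
  have hYsub : YF ⊆ blockFinset B := by
    intro χ hχ
    obtain ⟨ψ, -, rfl⟩ := mem_image.1 hχ
    exact (η ψ).2
  set XF := blockFinset B \ YF with hXF
  -- coefficients
  have he : ∀ χ (hχ : χ ∈ blockFinset B) ψ (hψ : ψ ≠ 1),
      eInt P χ ψ = -a χ + (if ζ ψ = χ then δ else 0) := by
    intro χ hχ ψ hψ
    rw [hadef]
    simp only [dif_pos hχ, neg_neg, hζ ψ hψ]
    by_cases h : η ⟨ψ, hψ⟩ = ⟨χ, hχ⟩
    · rw [if_pos (congrArg Subtype.val h), ← hv1 ⟨ψ, hψ⟩ _ h]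
    · rw [if_neg fun e => h (Subtype.ext e), add_zero, ← hv0 ⟨ψ, hψ⟩ _ h]
  have haY : ∀ χ ∈ YF, a χ = d := by
    intro χ hχ
    obtain ⟨ψ, -, rfl⟩ := mem_image.1 hχ
    simp only [hadef, dif_pos (η ψ).2, Subtype.coe_eta, hwη, neg_neg]
  have heX : ∀ χ ∈ XF, ∀ ψ, ψ ≠ 1 → eInt P χ ψ = -a χ := by
    intro χ hχ ψ hψ
    rw [he χ (mem_sdiff.1 hχ).1 ψ hψ, if_neg, add_zero]
    intro e
    exact (mem_sdiff.1 hχ).2 (mem_image.2 ⟨⟨ψ, hψ⟩, mem_univ _, (hζ ψ hψ).symm.trans e⟩)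
  have hζeq : ∀ ψ ψ', ψ ≠ 1 → ψ' ≠ 1 → (ζ ψ' = ζ ψ ↔ NRel P ψ ψ') := by
    intro ψ ψ' h h'
    rw [hζ ψ h, hζ ψ' h', Subtype.coe_inj, eq_comm, hη]
  -- the rows on the sections
  have hval : ∀ χ ∈ blockFinset B, ∀ y : (P : Subgroup G), y ≠ 1 → (χ : G → ℂ) y =
      (a χ : ℂ) + δ * ∑ ψ ∈ univ.filter (fun ψ => ψ ≠ 1 ∧ ζ ψ = χ), (ψ y : ℂ) := by
    intro χ hχ y hy
    rw [apply_eq_sum_eInt hF hM χ hy, mul_sum, sum_filter,
      sum_congr rfl (g := fun ψ : (P : Subgroup G) →* ℂˣ => (-(a χ) : ℂ) * (ψ y : ℂ) +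
        (if ψ = 1 then (a χ : ℂ) else 0) +
        if ψ ≠ 1 ∧ ζ ψ = χ then (δ : ℂ) * (ψ y : ℂ) else 0) (fun ψ _ => by
      by_cases h : ψ = 1
      · subst h
        have h0 : (eInt P χ (1 : (P : Subgroup G) →* ℂˣ) : ℂ) = 0 := by
          rw [coe_eInt]; simp
        rw [h0]; simp
      · rw [he χ hχ ψ h, if_neg h]
        by_cases h' : ζ ψ = χ
        · rw [if_pos h', if_pos ⟨h, h'⟩]; push_cast; ring
        · rw [if_neg h', if_neg fun e => h' e.2]; push_cast; ring),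
      sum_add_distrib, sum_add_distrib, ← mul_sum, sum_hom_apply, if_neg hy, sum_ite_eq',
      if_pos (mem_univ _)]
    ring
  have hsec : ∀ χ ∈ blockFinset B, ∀ z y : G, IsPPart p z y → y ∈ (P : Subgroup G) → y ≠ 1 →
      (χ : G → ℂ) z = (χ : G → ℂ) y := fun χ hχ z y hz hy h1 =>
    apply_section hF hM (mem_blockFinset.1 hχ) hz hy h1
  have hXval : ∀ χ ∈ XF, ∀ y : (P : Subgroup G), y ≠ 1 → (χ : G → ℂ) y = (a χ : ℂ) := by
    intro χ hχ y hy
    rw [hval χ (mem_sdiff.1 hχ).1 y hy, filter_eq_empty_iff.2, sum_empty, mul_zero, add_zero]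
    intro ψ _ e
    exact (mem_sdiff.1 hχ).2 (mem_image.2 ⟨⟨ψ, e.1⟩, mem_univ _, (hζ ψ e.1).symm.trans e.2⟩)
  -- counting
  have hcardY : YF.card * m + 1 = q := by
    have h := card_eq_sum_card_image (fun ψ : {ψ : (P : Subgroup G) →* ℂˣ // ψ ≠ 1} => (η ψ).1) univ
    rw [← hYF] at h
    have hfib : ∀ χ ∈ YF, (univ.filter fun ψ : {ψ : (P : Subgroup G) →* ℂˣ // ψ ≠ 1} =>
        (η ψ).1 = χ).card = m := by
      intro χ hχ
      obtain ⟨ψ, -, rfl⟩ := mem_image.1 hχ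
      rw [← horb ψ.1 ψ.2]
      refine card_bij (fun x _ => x.1) (fun x hx => ?_) (fun x _ x' _ e => Subtype.ext e) (fun x hx => ?_)
      · exact mem_filter.2 ⟨mem_univ _, (hη _ _).1 (Subtype.ext ((mem_filter.1 hx).2)).symm⟩
      · have hx' := (mem_filter.1 hx).2
        exact ⟨⟨x, hrel1 _ _ ψ.2 hx'⟩, mem_filter.2 ⟨mem_univ _, congrArg Subtype.val ((hη ψ _).2 hx').symm⟩,
          rfl⟩
    rw [sum_congr rfl hfib, sum_const, smul_eq_mul, card_univ, Fintype.card_subtype_compl,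
      Fintype.card_subtype_eq, hcardΨ] at h
    omega
  have htwo : 2 ≤ YF.card := by
    obtain ⟨x, x', hxx⟩ := hex
    exact one_lt_card.2 ⟨(η x).1, mem_image_of_mem _ (mem_univ _), (η x').1,
      mem_image_of_mem _ (mem_univ _), fun e => hxx ((hη _ _).1 (Subtype.ext e))⟩
  have hsplit : ∀ {A : Type} [AddCommMonoid A] (f : IrrCharacter G → A),
      ∑ χ ∈ blockFinset B, f χ = ∑ χ ∈ XF, f χ + ∑ χ ∈ YF, f χ := fun f => (sum_sdiff hYsub).symm
  -- the trivial character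
  have htrivB : trivIrr G ∈ blockFinset B := mem_blockFinset.2 (sameBlock_refl _)
  have htrivX : trivIrr G ∈ XF := by
    refine mem_sdiff.2 ⟨htrivB, fun h => ?_⟩
    obtain ⟨x, -, hx⟩ := mem_image.1 h
    obtain ⟨x₁, x₂, hxx⟩ := hex
    obtain ⟨x', hx'⟩ : ∃ x' : {ψ : (P : Subgroup G) →* ℂˣ // ψ ≠ 1}, ¬ NRel P x.1 x'.1 := by
      by_cases h1 : η x = η x₁
      · exact ⟨x₂, fun h2 => hxx ((hη _ _).1 (h1.symm.trans ((hη _ _).2 h2)))⟩
      · exact ⟨x₁, fun h2 => h1 ((hη _ _).2 h2)⟩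
    have e1 := he _ htrivB x.1 x.2
    have e2 := he _ htrivB x'.1 x'.2
    rw [eInt_triv hF hM x.2, if_pos ((hζ x.1 x.2).trans hx)] at e1
    rw [eInt_triv hF hM x'.2, if_neg fun e => hx' ((hζeq x.1 x'.1 x.2 x'.2).1
      (e.trans ((hζ x.1 x.2).trans hx).symm))] at e2
    rcases hδ with e | e <;> omega
  have hatriv : a (trivIrr G) = 1 := by
    obtain ⟨x, -⟩ := hex
    have h := heX _ htrivX x.1 x.2
    rw [eInt_triv hF hM x.2] at h
    omega
  -- constant rows do not vanish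
  have hane : ∀ χ ∈ XF, a χ ≠ 0 := by
    intro χ hχ h0
    have hne : χ ≠ trivIrr G := fun e => by rw [e, hatriv] at h0; exact one_ne_zero h0
    refine regEntry_ne_zero (p := p) (weakOrth hM hB) hM hB (mem_blockFinset.1 (mem_sdiff.1 hχ).1)
      (mem_blockFinset.1 htrivB) (CfsgLib.BlockLocal.blockHeight_trivIrr B) ?_
    have hz : pRegularPart p (χ : G → ℂ) = (χ : G → ℂ) := by
      funext g
      rw [pRegularPart_apply]
      split_ifs with hg
      swap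
      · rfl
      obtain ⟨z, hz⟩ := exists_isPPart p g
      obtain ⟨k, hk⟩ : ∃ k : ℕ, orderOf z = p ^ k := by
        obtain ⟨u, -, -, h, -⟩ := id hz; exact h
      obtain ⟨Q, hQ⟩ := (IsPGroup.of_card (n := k) (show Nat.card (Subgroup.zpowers z) = p ^ k by
        rw [Nat.card_zpowers, hk])).exists_le_sylow
      obtain ⟨c, hc⟩ := MulAction.exists_smul_eq G P Q
      rw [← hc] at hQ
      obtain ⟨v, hv, hvz⟩ := Subgroup.mem_map.1 (hQ (Subgroup.mem_zpowers z))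
      change c * v * c⁻¹ = z at hvz
      have hv1 : v ≠ 1 := fun e => (isPPart_eq_one_iff hz).1 (by rw [← hvz, e]; group) hg
      have hzc := IsPPart.conj hz c⁻¹
      rw [inv_inv] at hzc
      rw [show c⁻¹ * z * c = v by rw [← hvz]; group] at hzc
      rw [← IsIrrCharacter.isClassFunction χ.2 g c⁻¹, inv_inv,
        hsec χ (mem_sdiff.1 hχ).1 _ v hzc hv hv1,
        hXval χ hχ ⟨v, hv⟩ (fun e => hv1 (congrArg Subtype.val e)), h0, Int.cast_zero]
    have hri : regInner p (χ : G → ℂ) (trivIrr G : G → ℂ) = 0 := by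
      rw [regInner, hz]
      exact classInner_eq_zero_of_ne χ.2 (trivIrr G).2 fun e => hne (Subtype.ext e)
    simp [regEntry, hri]
  -- regular relation
  have hrel : ∀ ψ, ψ ≠ 1 → ∀ g : G, ¬ p ∣ orderOf g →
      ∑ χ ∈ XF, (a χ : ℂ) * (χ : G → ℂ) g + (d : ℂ) * ∑ χ ∈ YF, (χ : G → ℂ) g =
        (δ : ℂ) * (ζ ψ : G → ℂ) g := by
    intro ψ hψ g hg
    have h := sum_reg_mul_eInt hF hM hg ψ
    have hζY : ζ ψ ∈ YF := mem_image.2 ⟨⟨ψ, hψ⟩, mem_univ _, (hζ ψ hψ).symm⟩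
    rw [← hBdef, hsplit, sum_congr rfl (s₁ := XF) (g := fun χ => -((a χ : ℂ) * (χ : G → ℂ) g))
      (fun χ hχ => by rw [heX χ hχ ψ hψ]; push_cast; ring),
      sum_congr rfl (s₁ := YF) (g := fun χ => -((d : ℂ) * (χ : G → ℂ) g) +
        if ζ ψ = χ then (δ : ℂ) * (χ : G → ℂ) g else 0) (fun χ hχ => by
        rw [he χ (hYsub hχ) ψ hψ, haY χ hχ]; split_ifs <;> push_cast <;> ring),
      sum_neg_distrib, sum_add_distrib, sum_neg_distrib, ← mul_sum, sum_ite_eq, if_pos hζY] at h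
    linear_combination -h
  have hagree : ∀ η₁ ∈ YF, ∀ η₂ ∈ YF, ∀ g : G, ¬ p ∣ orderOf g →
      (η₁ : G → ℂ) g = (η₂ : G → ℂ) g := by
    intro η₁ h1 η₂ h2 g hg
    obtain ⟨x₁, -, rfl⟩ := mem_image.1 h1
    obtain ⟨x₂, -, rfl⟩ := mem_image.1 h2
    have := (hrel x₁.1 x₁.2 g hg).symm.trans (hrel x₂.1 x₂.2 g hg)
    rw [hζ x₁.1 x₁.2, hζ x₂.1 x₂.2] at this
    exact mul_left_cancel₀ (by rcases hδ with e | e <;> rw [e] <;> norm_num) this
  have hXfin : ∀ {A : Type} [AddCommMonoid A] (f : IrrCharacter G → A),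
      ∑ᶠ χ ∈ (↑XF : Set (IrrCharacter G)), f χ = ∑ χ ∈ XF, f χ := fun f =>
    finsum_mem_coe_finset f XF
  refine ⟨{
    X := ↑XF, Y := ↑YF, a := a, d := d, δ := δ, ζ := ζ
    union := ?_, disj := ?_, triv := htrivX, a_triv := hatriv, sign := hδ, a_ne := hane
    val_X := ?_, ζ_mem := ?_, ζ_surj := ?_, ζ_eq := hζeq, val_Y := ?_, card_Y := ?_, two_le := ?_
    norm := ?_, agree := hagree, reg := ?_
    dvd := fun χ hχ => dvd_degree_sub hF hM χ (hXval χ hχ) }⟩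
  · rw [← coe_union, hXF, sdiff_union_of_subset hYsub]; ext; simp [B]
  · exact disjoint_coe.2 sdiff_disjoint
  · intro χ hχ z y hz hy h1
    rw [hsec χ (mem_sdiff.1 hχ).1 z y hz hy h1]
    exact hXval χ hχ ⟨y, hy⟩ fun e => h1 (congrArg Subtype.val e)
  · exact fun ψ hψ => mem_image.2 ⟨⟨ψ, hψ⟩, mem_univ _, (hζ ψ hψ).symm⟩
  · intro η' hη'
    obtain ⟨x, -, hx⟩ := mem_image.1 (mem_coe.1 hη')
    exact ⟨x.1, x.2, (hζ x.1 x.2).trans hx⟩
  · intro ψ hψ z y hz h1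
    have hY : ζ ψ ∈ YF := mem_image.2 ⟨⟨ψ, hψ⟩, mem_univ _, (hζ ψ hψ).symm⟩
    rw [hsec _ (hYsub hY) z y hz y.2 h1, hval _ (hYsub hY) y (fun e => h1 (congrArg Subtype.val e)),
      haY _ hY]
    congr 2
    rw [finsum_mem_eq_finite_toFinset_sum _ (Set.toFinite _)]
    refine sum_congr (Finset.ext fun x => ?_) fun _ _ => rfl
    simp only [mem_filter, mem_univ, true_and, Set.Finite.mem_toFinset, Set.mem_ofPred_eq]
    exact ⟨fun h => (hζeq ψ x hψ h.1).1 h.2,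
      fun h => ⟨hrel1 _ _ hψ h, (hζeq ψ x hψ (hrel1 _ _ hψ h)).2 h⟩⟩
  · simp only [coe_sort_coe, Nat.card_eq_fintype_card, Fintype.card_coe]
    rw [← Nat.card_eq_fintype_card]
    exact hcardY
  · simpa using htwo
  · rw [hXfin]
    have hw : ∑ i : {χ // χ ∈ blockFinset B}, w i ^ 2 = ∑ χ ∈ blockFinset B, a χ ^ 2 := by
      rw [← sum_coe_sort (blockFinset B) fun χ => a χ ^ 2]
      exact sum_congr rfl fun i _ => by simp only [hadef, dif_pos i.2, Subtype.coe_eta, neg_sq]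
    rw [hw, hsplit, sum_congr rfl (s₁ := YF) (g := fun _ => d ^ 2) (fun χ hχ => by rw [haY χ hχ]),
      sum_const, nsmul_eq_mul] at hnorm
    simp only [coe_sort_coe, Nat.card_eq_fintype_card, Fintype.card_coe]
    linarith [show (d - δ) ^ 2 = d ^ 2 - 2 * δ * d + 1 by rw [← hδ2]; ring]
  · intro η' hη' g hg
    obtain ⟨x, -, hx⟩ := mem_image.1 (mem_coe.1 hη')
    have h := hrel x.1 x.2 g hg
    rw [sum_congr rfl (fun χ hχ => hagree χ hχ η' (mem_coe.1 hη') g hg), sum_const, nsmul_eq_mul,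
      (hζ x.1 x.2).trans hx] at h
    rw [hXfin]
    simp only [coe_sort_coe, Nat.card_eq_fintype_card, Fintype.card_coe]
    linear_combination h

end CfsgLib.BlockSections.Exceptional
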