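import Cfsg.Agent.Lib.BlockSections.ExceptionalThree
import Cfsg.Agent.Lib.BrauerCharacters.PrincipalInvolution
import Cfsg.Agent.Lib.CharTheory.Inflation

/-!
# An involution and the exceptional characters

If no product of two conjugates of an involution `t` has `p`-part `y` then the sum over the
principal block of `χ t ^ 2 / χ 1 * χ y` vanishes. For a fixed-point-free action of order three
this fixes the signs and makes the product of the degrees a square.
-/

set_option autoImplicit false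
set_option linter.unusedSectionVars false
set_option linter.style.haveILetI false

namespace CfsgLib.BlockSections.Exceptional

open Cfsg CfsgLib.CharTheory CfsgLib.Blocks CfsgLib.BrauerCharacters CfsgLib.BlockSections Finset
open scoped ComplexConjugate

variable {G : Type*} [Group G] [Fintype G] {p : ℕ} [hp : Fact p.Prime] {P : Sylow p G} {m : ℕ}
  (hF : IsFrobSylow P m) {M : Ideal AlgInt} [M.IsPrime] (hM : IsPModular p M)
include hF hM

/-- The class sum identity projected on the principal block. -/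
theorem sum_involution_eq_zero {t y : G} (ht : t * t = 1) (hy : y ∈ (P : Subgroup G)) (h1 : y ≠ 1)
    (hno : ∀ x z : G, IsPPart p z y → IsConj t x → ¬ IsConj t (x * z)) :
    ∑ χ ∈ blockFinset (principalBlock M G),
      (χ : G → ℂ) t ^ 2 / (χ : G → ℂ) 1 * (χ : G → ℂ) y = 0 := by
  classical
  haveI := Fintype.ofFinite (IrrCharacter G)
  haveI := Fintype.ofFinite (Subgroup.centralizer ({y} : Set G))
  set C := Subgroup.centralizer ({y} : Set G)
  have hye := isPElem hF hM hy
  have hz : ∀ s : C, ¬ p ∣ orderOf s → ∑ χ : IrrCharacter G, (χ : G → ℂ) t ^ 2 / (χ : G → ℂ) 1 *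
      (χ : G → ℂ) ((cenElem y * s : C) : G) = 0 := by
    intro s hs
    set z := ((cenElem y * s : C) : G)
    have hk := sum_weight_pairs t t (fun u : G => if u = z then (1 : ℂ) else 0)
    rw [sum_eq_single z (fun u _ hu => by rw [if_neg hu, zero_mul]) (by simp)] at hk
    rw [if_pos rfl, one_mul] at hk
    have hk := hk.symm.trans (Nat.cast_eq_zero.2 (card_eq_zero.2 (by
      ext x
      simp only [mem_filter, mem_univ, true_and, notMem_empty, iff_false]
      exact fun hx => hno x z (isPPart_coe hye hs) hx.1 hx.2)))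
    simp only [ite_mul, one_mul, zero_mul, sum_ite_eq', mem_univ, if_true] at hk
    have hI : ((Subgroup.centralizer ({t} : Set G)).index : ℂ) ≠ 0 :=
      Nat.cast_ne_zero.2 Subgroup.index_ne_zero_of_finite
    have hN : (Nat.card G : ℂ) ≠ 0 := Nat.cast_ne_zero.2 Nat.card_pos.ne'
    have h2 := (mul_eq_zero.1 hk).resolve_left (div_ne_zero hI hN)
    refine mul_left_cancel₀ hI ?_
    rw [mul_zero, ← h2, mul_sum]
    refine sum_congr rfl fun χ _ => ?_
    rw [centralChar_apply, conj_apply_involution χ ht]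
    ring
  have hsum : ∀ χ : IrrCharacter G, ∑ s : C, (if p ∣ orderOf s then 0 else
      (χ : G → ℂ) ((cenElem y * s : C) : G)) =
      if χ ∈ principalBlock M G then
        ((univ.filter fun s : C => ¬ p ∣ orderOf s).card : ℂ) * (χ : G → ℂ) y else 0 := by
    intro χ
    split_ifs with hχ
    · rw [← nsmul_eq_mul, ← sum_const, sum_filter]
      refine sum_congr rfl fun s _ => ?_
      by_cases hs : p ∣ orderOf s
      · rw [if_pos hs, if_neg (not_not.2 hs)]
      · rw [if_neg hs, if_pos hs]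
        exact apply_section hF hM hχ (isPPart_coe hye hs) hy h1
    · have hind := isInducedBlock_principal (M := M) y hye hM
      have h := contrib_eq_sum_apply y hM hind.1 χ (trivIrr G)
      rw [contrib_eq_zero_of_notMem y hM hye hind hχ, eq_comm, mul_eq_zero] at h
      refine Eq.trans (sum_congr rfl fun s _ => ?_)
        (h.resolve_left (inv_ne_zero (Nat.cast_ne_zero.2 Nat.card_pos.ne')))
      by_cases hs : p ∣ orderOf s
      · rw [if_pos hs, if_pos hs]
      · rw [if_neg hs, if_neg hs, ← apply_eq_secPart_principal y hye hM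
          (show trivIrr G ∈ principalBlock M G from sameBlock_refl _) hs,
          trivIrr_apply, map_one, mul_one]
  have h : ∑ s : C, (if p ∣ orderOf s then (0 : ℂ) else ∑ χ : IrrCharacter G,
      (χ : G → ℂ) t ^ 2 / (χ : G → ℂ) 1 * (χ : G → ℂ) ((cenElem y * s : C) : G)) = 0 :=
    sum_eq_zero fun s _ => by
      split_ifs with hs
      · rfl
      · exact hz s hs
  rw [sum_congr rfl (g := fun s : C => ∑ χ : IrrCharacter G, (χ : G → ℂ) t ^ 2 / (χ : G → ℂ) 1 *
      if p ∣ orderOf s then 0 else (χ : G → ℂ) ((cenElem y * s : C) : G)) (fun s _ => by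
    split_ifs <;> simp), sum_comm] at h
  rw [sum_congr rfl (fun χ _ => (mul_sum _ _ _).symm)] at h
  simp only [hsum, mul_ite, mul_zero] at h
  rw [← sum_filter] at h
  have hn : ((univ.filter fun s : C => ¬ p ∣ orderOf s).card : ℂ) ≠ 0 := by
    rw [Nat.cast_ne_zero]
    exact (card_pos.2 ⟨1, mem_filter.2 ⟨mem_univ _, by rw [orderOf_one]; exact hp.out.not_dvd_one⟩⟩).ne'
  refine mul_left_cancel₀ hn ?_
  rw [mul_zero, ← h, mul_sum]
  refine sum_congr (by ext; simp) fun χ _ => ?_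
  ring

omit hM in
theorem conj_inv_of_pairs {t x y z : G} (ht : t * t = 1) (hz : IsPPart p z y) (hx : IsConj t x)
    (hxz : IsConj t (x * z)) : x * x = 1 ∧ x * y * x⁻¹ = y⁻¹ := by
  obtain ⟨g, rfl⟩ := isConj_iff.1 hx
  obtain ⟨c, hc⟩ := isConj_iff.1 hxz
  have hsq : ∀ g : G, g * t * g⁻¹ * (g * t * g⁻¹) = 1 := fun g => by
    rw [show g * t * g⁻¹ * (g * t * g⁻¹) = g * (t * t) * g⁻¹ by group, ht]; group
  refine ⟨hsq g, ?_⟩
  have h2 := hsq c
  rw [hc] at h2
  set x := g * t * g⁻¹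
  have hxi : x⁻¹ = x := inv_eq_of_mul_eq_one_right (hsq g)
  have e : x * z * x⁻¹ = z⁻¹ := by
    rw [eq_inv_iff_mul_eq_one, hxi]
    simpa [mul_assoc] using h2
  exact IsPPart.unique (IsPPart.conj hz x) (e ▸ IsPPart.inv hz)

omit hM in
/-- With an action of order three an element of `P` conjugate to its inverse is an involution. -/
theorem mul_self_of_conj_inv (hm : m = 3) {y : (P : Subgroup G)} (h : IsConj (y : G) (y⁻¹ : (P : Subgroup G))) :
    y * y = 1 := by
  by_cases hy : y = 1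
  · rw [hy, one_mul]
  obtain ⟨α, hα, he⟩ := (isConj_iff_autP hF).1 h
  have h3 : α ^ 3 = 1 := by
    have := pow_card_eq_one' (x := (⟨α, hα⟩ : autP P))
    rw [card_autP hF, hm] at this
    exact congrArg Subtype.val this
  have h2 : α * α = 1 := autP_free hF (mul_mem hα hα) hy (by
    show α (α y) = y
    rw [he, map_inv, he, inv_inv])
  have : α = 1 := by rw [← h3, pow_succ, pow_two, h2, one_mul]
  rw [this] at he
  exact mul_eq_one_iff_eq_inv.2 he

omit hM in
/-- For `p = 2` the products of pairs lie over products of conjugates of `t` in `P`. -/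
theorem two_pairs (hm : m = 3) (hp2 : p = 2) {t : (P : Subgroup G)} (ht : t * t = 1) (ht1 : t ≠ 1)
    {y : (P : Subgroup G)} (hy : y ≠ 1)
    (hno : ∀ α ∈ autP P, ∀ β ∈ autP P, α t * β t ≠ y) {x z : G} (hz : IsPPart p z (y : G))
    (hx : IsConj (t : G) x) : ¬ IsConj (t : G) (x * z) := by
  intro hxz
  have ht' : (t : G) * t = 1 := congrArg Subtype.val ht
  obtain ⟨-, hxy⟩ := conj_inv_of_pairs hF ht' hz hx hxz
  have hyy := mul_self_of_conj_inv hF hm (y := y) (isConj_iff.2 ⟨x, hxy⟩)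
  have hy1 : (y : G) ≠ 1 := fun e => hy (Subtype.ext e)
  rw [inv_eq_of_mul_eq_one_right (congrArg Subtype.val hyy : (y : G) * y = 1)] at hxy
  have hxC : x ∈ Subgroup.centralizer ({(y : G)} : Set G) :=
    Subgroup.mem_centralizer_singleton_iff.2 (mul_inv_eq_iff_eq_mul.1 hxy)
  obtain ⟨u, hu, huy, -, hureg⟩ := id hz
  have huC : u ∈ Subgroup.centralizer ({(y : G)} : Set G) :=
    Subgroup.mem_centralizer_singleton_iff.2 huy.eq.symm
  haveI := hF.comm
  obtain ⟨O, hn, -, hreg, -, huniq, hcov⟩ := exists_complement hF y.2 hy1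
  haveI := hn
  have hle : (P : Subgroup G) ≤ Subgroup.centralizer ({(y : G)} : Set G) := fun v hv => Subgroup.mem_centralizer_singleton_iff.2
    (congrArg Subtype.val (mul_comm' (⟨v, hv⟩ : (P : Subgroup G)) y))
  set π := QuotientGroup.mk' O
  have hπcomm : ∀ a b : Subgroup.centralizer ({(y : G)} : Set G), π a * π b = π b * π a := by
    intro a b
    obtain ⟨v, hv, hva⟩ := hcov a
    obtain ⟨w, hw, hwb⟩ := hcov b
    rw [show π a = π v from (QuotientGroup.eq.2 hva).symm, show π b = π w from (QuotientGroup.eq.2 hwb).symm,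
      ← map_mul, ← map_mul]
    exact congrArg π (Subtype.ext (show (v : G) * w = w * v from congrArg Subtype.val
      (mul_comm' (⟨v, hv⟩ : (P : Subgroup G)) ⟨w, hw⟩)))
  have himg : ∀ a : Subgroup.centralizer ({(y : G)} : Set G), IsConj (t : G) a → ∃ α ∈ autP P, π a = π ⟨(α t : G), hle (α t).2⟩ := by
    intro a ha
    have hao : orderOf (a : G) = p ^ 1 := by
      obtain ⟨g, hg⟩ := isConj_iff.1 ha
      rw [← hg, ← MulAut.conj_apply, MulEquiv.orderOf_eq, pow_one]
      exact (orderOf_eq_prime (p := 2) (by rw [pow_two]; exact ht')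
        fun e => ht1 (Subtype.ext e)).trans hp2.symm
    have hQ : IsPGroup p (Subgroup.zpowers a) := IsPGroup.of_card (n := 1) (by
      rw [Nat.card_zpowers, ← Subgroup.orderOf_coe, hao])
    obtain ⟨R, hR⟩ := hQ.exists_le_sylow
    obtain ⟨c, hc⟩ := MulAction.exists_smul_eq (Subgroup.centralizer ({(y : G)} : Set G))
      (P.subtype hle : Sylow p (Subgroup.centralizer ({(y : G)} : Set G))) R
    rw [← hc] at hR
    obtain ⟨w, hw, hwa⟩ := Subgroup.mem_map.1 (hR (Subgroup.mem_zpowers a))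
    change c * w * c⁻¹ = a at hwa
    obtain ⟨α, hα, he⟩ := (isConj_iff_autP hF (y := t) (y' := ⟨(w : G), hw⟩)).1
      (ha.trans (IsConj.symm (isConj_iff.2 ⟨(c : G), congrArg Subtype.val hwa⟩)))
    refine ⟨α, hα, ?_⟩
    have hw' : π ⟨(α t : G), hle (α t).2⟩ = π w :=
      congrArg π (Subtype.ext (show (α t : G) = w from congrArg Subtype.val he))
    rw [hw', ← hwa, map_mul, map_mul, hπcomm c w, map_inv, mul_inv_cancel_right]
  set xC : Subgroup.centralizer ({(y : G)} : Set G) := ⟨x, hxC⟩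
  set zC : Subgroup.centralizer ({(y : G)} : Set G) := ⟨z, hu ▸ mul_mem (Subgroup.mem_centralizer_singleton_iff.2 rfl) huC⟩
  set yC : Subgroup.centralizer ({(y : G)} : Set G) := ⟨(y : G), Subgroup.mem_centralizer_singleton_iff.2 rfl⟩
  obtain ⟨α, hα, hx'⟩ := himg xC hx
  obtain ⟨β, hβ, hv'⟩ := himg (xC * zC) hxz
  have hzy : π zC = π yC := by
    refine (QuotientGroup.eq.2 ((hreg _).1 ?_)).symm
    rw [← Subgroup.orderOf_coe, show ((yC⁻¹ * zC : Subgroup.centralizer ({(y : G)} : Set G)) : G) = u from by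
      show (y : G)⁻¹ * z = u
      rw [← hu, inv_mul_cancel_left]]
    exact hureg
  rw [map_mul, hx', hzy, ← map_mul] at hv'
  have h := huniq (((⟨(α t : G), hle (α t).2⟩ : Subgroup.centralizer ({(y : G)} : Set G)) * yC)⁻¹ * ⟨(β t : G), hle (β t).2⟩)
    ((P : Subgroup G).mul_mem ((P : Subgroup G).inv_mem ((P : Subgroup G).mul_mem (α t).2 y.2)) (β t).2)
    (QuotientGroup.eq.1 hv')
  have h' := congrArg Subtype.val (inv_mul_eq_one.1 h)
  have hαy : α t * y = β t := Subtype.ext h'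
  refine hno α hα β hβ ?_
  rw [← hαy, ← mul_assoc, ← map_mul, ht, map_one, one_mul]

omit hF in
theorem apply_ne_one_of_gen {t : G} (hgen : ∀ K : Subgroup G, K.Normal → t ∈ K → K = ⊤)
    (χ : IrrCharacter G) (hne : χ ≠ trivIrr G) : (χ : G → ℂ) t ≠ (χ : G → ℂ) 1 := by
  intro h
  obtain ⟨K, hK, hmem, -⟩ := exists_kernel (IsIrrCharacter.isCharacter χ.2)
  have hall : ∀ g : G, (χ : G → ℂ) g = (χ : G → ℂ) 1 := fun g => (hmem g).1 (by
    rw [hgen K hK ((hmem t).2 h)]; trivial)
  have h0 := classInner_eq_zero_of_ne χ.2 (trivIrr G).2 fun e => hne (Subtype.ext e)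
  simp only [classInner, hall, trivIrr_apply, map_one, mul_one, sum_const, card_univ, nsmul_eq_mul,
    ← Nat.card_eq_fintype_card] at h0
  rw [inv_mul_cancel_left₀ (Nat.cast_ne_zero.2 Nat.card_pos.ne')] at h0
  exact apply_one_ne_zero_of_isIrr χ.2 h0

omit hF in
/-- The sum over the block splits into the two sides. -/
theorem sum_split (D : ExcData p M P m) {A : Type*} [AddCommMonoid A] (f : IrrCharacter G → A) :
    ∑ χ ∈ blockFinset (principalBlock M G), f χ = ∑ᶠ χ ∈ D.X, f χ + ∑ᶠ χ ∈ D.Y, f χ := by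
  rw [← finsum_mem_eq_sum_blockFinset, D.union, finsum_mem_union D.disj D.X.toFinite D.Y.toFinite]

open scoped Classical in
/-- For `p = 2` there is no involution outside all proper normal subgroups. -/
theorem false_of_two (hm : m = 3) (hp2 : p = 2) (D : ExcData p M P m) (hd : D.d = 0)
    {χA χB : IrrCharacter G} (hAB : χA ≠ χB) (hA1 : χA ≠ trivIrr G) (hB1 : χB ≠ trivIrr G)
    (hX : D.X = {trivIrr G, χA, χB}) (hAs : D.a χA = 1 ∨ D.a χA = -1)
    (hBs : D.a χB = 1 ∨ D.a χB = -1) {t : G} (hto : orderOf t = 2)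
    (hgen : ∀ K : Subgroup G, K.Normal → t ∈ K → K = ⊤) : False := by
  haveI := hF.comm
  letI : CommGroup (P : Subgroup G) := { mul_comm := mul_comm' }
  haveI := Fintype.ofFinite ((P : Subgroup G) →* ℂˣ)
  -- move the involution into `P`
  obtain ⟨Q, hQ⟩ := (IsPGroup.of_card (p := p) (n := 1) (show Nat.card (Subgroup.zpowers t) = p ^ 1 by
    rw [Nat.card_zpowers, hto, pow_one, hp2])).exists_le_sylow
  obtain ⟨c, hc⟩ := MulAction.exists_smul_eq G P Q
  rw [← hc] at hQ
  obtain ⟨w, hwP, hwt⟩ := Subgroup.mem_map.1 (hQ (Subgroup.mem_zpowers t))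
  change c * w * c⁻¹ = t at hwt
  have hgen' : ∀ K : Subgroup G, K.Normal → w ∈ K → K = ⊤ := fun K hK h =>
    hgen K hK (hwt ▸ hK.conj_mem w h c)
  have hwo : orderOf w = 2 := by
    rw [← MulEquiv.orderOf_eq (MulAut.conj c) w, MulAut.conj_apply, hwt, hto]
  have hw1 : w ≠ 1 := fun e => by rw [e, orderOf_one] at hwo; norm_num at hwo
  set t₀ : (P : Subgroup G) := ⟨w, hwP⟩
  have ht2 : w * w = 1 := by rw [← pow_two, ← hwo]; exact pow_orderOf_eq_one w
  have ht₀ : t₀ * t₀ = 1 := Subtype.ext ht2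
  have ht₀1 : t₀ ≠ 1 := fun e => hw1 (congrArg Subtype.val e)
  -- the order of `P`
  have hr2 := D.two_le
  have hq := D.card_Y
  obtain ⟨k, hk⟩ := IsPGroup.iff_card.1 P.2
  have hq10 : 10 ≤ Nat.card (P : Subgroup G) := by
    by_contra hlt
    have hmul : Nat.card D.Y * m = Nat.card D.Y * 3 := congrArg _ hm
    have hr : Nat.card D.Y = 2 := by omega
    have h7 : Nat.card (P : Subgroup G) = 7 := by omega
    have h2 : 2 ∣ Nat.card (P : Subgroup G) := by
      rcases Nat.eq_zero_or_pos k with e | e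
      · rw [e, pow_zero] at hk; omega
      · rw [hk, hp2]; exact dvd_pow_self 2 e.ne'
    omega
  -- an element that is not a product of two conjugates of the involution
  obtain ⟨y, hy, hno⟩ : ∃ y : (P : Subgroup G), y ≠ 1 ∧
      ∀ α ∈ autP P, ∀ β ∈ autP P, α t₀ * β t₀ ≠ y := by
    set S := (univ : Finset (autP P × autP P)).image fun x =>
      (x.1 : MulAut (P : Subgroup G)) t₀ * (x.2 : MulAut (P : Subgroup G)) t₀
    have h1 : (1 : (P : Subgroup G)) ∈ S := mem_image.2 ⟨(1, 1), mem_univ _, ht₀⟩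
    have hcard : S.card ≤ 9 := by
      refine card_image_le.trans ?_
      rw [card_univ, Fintype.card_prod, ← Nat.card_eq_fintype_card, card_autP hF, hm]
    obtain ⟨y, -, hy⟩ := exists_mem_notMem_of_card_lt_card (t := (univ : Finset (P : Subgroup G)))
      (s := S) (by rw [card_univ, ← Nat.card_eq_fintype_card]; omega)
    exact ⟨y, fun e => hy (e ▸ h1), fun α hα β hβ e =>
      hy (mem_image.2 ⟨(⟨α, hα⟩, ⟨β, hβ⟩), mem_univ _, e⟩)⟩
  have hy' : (y : G) ≠ 1 := fun e => hy (Subtype.ext e)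
  have hvan := sum_involution_eq_zero hF hM ht2 y.2 hy'
    fun x z hz hx => two_pairs hF hm hp2 ht₀ ht₀1 hy hno hz hx
  -- degrees
  obtain ⟨η₀, hη₀⟩ : D.Y.Nonempty := Set.nonempty_coe_sort.1 (Nat.card_pos_iff.1 (by omega)).1
  set A : ℤ := (charDegree (χA : G → ℂ) : ℤ)
  set B : ℤ := (charDegree (χB : G → ℂ) : ℤ)
  set E : ℤ := (charDegree (η₀ : G → ℂ) : ℤ)
  have hA : (χA : G → ℂ) 1 = (A : ℂ) := by rw [(charDegree_spec χA).1]; simp [A]
  have hB : (χB : G → ℂ) 1 = (B : ℂ) := by rw [(charDegree_spec χB).1]; simp [B]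
  have hE : ∀ η ∈ D.Y, (η : G → ℂ) 1 = (E : ℂ) := fun η hη => by
    rw [D.agree η hη η₀ hη₀ 1 (by rw [orderOf_one]; exact hp.out.not_dvd_one), (charDegree_spec η₀).1]
    simp [E]
  have hA0 : 0 < A := Int.natCast_pos.2 (charDegree_spec χA).2.1
  have hB0 : 0 < B := Int.natCast_pos.2 (charDegree_spec χB).2.1
  have hE0 : 0 < E := Int.natCast_pos.2 (charDegree_spec η₀).2.1
  have hXsum : ∀ f : IrrCharacter G → ℂ, ∑ᶠ χ ∈ D.X, f χ = f (trivIrr G) + (f χA + f χB) := by
    intro f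
    rw [hX, finsum_mem_insert f (by simp [Ne.symm hA1, Ne.symm hB1]) (Set.toFinite _),
      finsum_mem_pair hAB]
  have hmemA : χA ∈ D.X := by rw [hX]; simp
  have hmemB : χB ∈ D.X := by rw [hX]; simp
  have e1 : 1 + D.a χA * A + D.a χB * B = D.δ * E := by
    have h := D.reg η₀ hη₀ 1 (by rw [orderOf_one]; exact hp.out.not_dvd_one)
    rw [hXsum, hd, D.a_triv, trivIrr_apply, hA, hB, hE η₀ hη₀] at h
    apply Int.cast_injective (α := ℂ)
    push_cast at h ⊢
    linear_combination h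
  -- the exceptional side of the vanishing sum
  have hval : ∀ χ ∈ D.X, ∀ v : (P : Subgroup G), v ≠ 1 → (χ : G → ℂ) v = (D.a χ : ℂ) := fun χ hχ v hv =>
    D.val_X χ hχ v v (isPPart_self hF hM v.2) v.2 fun e => hv (Subtype.ext e)
  have hY : ∑ᶠ χ ∈ D.Y, (χ : G → ℂ) w ^ 2 / (χ : G → ℂ) 1 * (χ : G → ℂ) y =
      (-9 : ℂ) * D.δ / E := by
    have hfib : ∀ ψ : (P : Subgroup G) →* ℂˣ, ψ ≠ 1 → ∀ v : (P : Subgroup G), v ≠ 1 →
        (D.ζ ψ : G → ℂ) v = (D.δ : ℂ) * ∑ α : autP P,
          ((ψ ((α : MulAut (P : Subgroup G)) v) : ℂˣ) : ℂ) := by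
      intro ψ hψ v hv
      rw [D.val_Y ψ hψ v v (isPPart_self hF hM v.2) (fun e => hv (Subtype.ext e)), hd, Int.cast_zero,
        zero_add]
      congr 1
      have hset : {ψ' | NRel P ψ ψ'} = Set.range fun α : autP P =>
          ψ.comp (α : MulAut (P : Subgroup G)).toMonoidHom := by
        ext ψ'
        constructor
        · rintro ⟨α, hα, he⟩
          refine ⟨⟨α⁻¹, inv_mem hα⟩, ?_⟩
          rw [← he]
          exact MonoidHom.ext fun u => congrArg ψ' (α.apply_symm_apply u)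
        · rintro ⟨α, rfl⟩
          exact ⟨(α : MulAut (P : Subgroup G))⁻¹, inv_mem α.2, MonoidHom.ext fun u =>
            congrArg ψ ((α : MulAut (P : Subgroup G)).apply_symm_apply u)⟩
      rw [hset, finsum_mem_range fun α β e => Subtype.ext (autP_eq_of_nRel hF α.2 β.2 hψ e),
        finsum_eq_sum_of_fintype]
      rfl
    set Φ : ((P : Subgroup G) →* ℂˣ) → ℂ := fun ψ =>
      (∑ α : autP P, (ψ ((α : MulAut (P : Subgroup G)) t₀) : ℂ)) ^ 2 * (ψ y : ℂ)
    have hstep : ∀ η ∈ D.Y.toFinite.toFinset, (η : G → ℂ) w ^ 2 / (η : G → ℂ) 1 * (η : G → ℂ) y =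
        (D.δ : ℂ) / E * ∑ ψ ∈ (univ.erase (1 : (P : Subgroup G) →* ℂˣ)).filter (fun ψ => D.ζ ψ = η), Φ ψ := by
      intro η hη
      have hη' : η ∈ D.Y := by simpa using hη
      obtain ⟨ψ₀, hψ₀, rfl⟩ := D.ζ_surj η hη'
      have hcongr : ∀ ψ ∈ (univ.erase (1 : (P : Subgroup G) →* ℂˣ)).filter (fun ψ => D.ζ ψ = D.ζ ψ₀),
          Φ ψ = (D.ζ ψ₀ : G → ℂ) w ^ 2 * (ψ y : ℂ) := by
        intro ψ hψ
        simp only [mem_filter, mem_erase, mem_univ, and_true] at hψ
        rw [← hψ.2, show w = (t₀ : G) from rfl, hfib ψ hψ.1 t₀ ht₀1]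
        simp only [Φ]
        rcases D.sign with e | e <;> rw [e] <;> push_cast <;> ring
      rw [sum_congr rfl hcongr, ← mul_sum, hE _ hη']
      rw [D.val_Y ψ₀ hψ₀ y y (isPPart_self hF hM y.2) hy', hd, Int.cast_zero, zero_add,
        finsum_mem_eq_finite_toFinset_sum _ (Set.toFinite _)]
      rw [sum_congr (s₂ := (univ.erase (1 : (P : Subgroup G) →* ℂˣ)).filter (fun ψ => D.ζ ψ = D.ζ ψ₀))
        (Finset.ext fun x => ?_) fun _ _ => rfl]
      · ring
      · simp only [mem_filter, mem_erase, mem_univ, and_true, Set.Finite.mem_toFinset,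
          Set.mem_ofPred_eq]
        refine ⟨fun h => ?_, fun h => (D.ζ_eq ψ₀ x hψ₀ h.1).1 h.2⟩
        have hx1 : x ≠ 1 := by
          obtain ⟨α, -, hα⟩ := h
          rintro rfl
          exact hψ₀ (hα.symm.trans (MonoidHom.ext fun _ => rfl))
        exact ⟨hx1, (D.ζ_eq ψ₀ x hψ₀ hx1).2 h⟩
    rw [finsum_mem_eq_finite_toFinset_sum _ D.Y.toFinite, sum_congr rfl hstep, ← mul_sum,
      sum_fiberwise_of_maps_to (fun ψ hψ => by
        simpa using D.ζ_mem ψ (mem_erase.1 hψ).1)]
    have h0 : ∑ ψ : (P : Subgroup G) →* ℂˣ, Φ ψ = 0 := by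
      simp only [Φ, pow_two, sum_mul_sum]
      simp only [sum_mul]
      rw [sum_comm]
      refine sum_eq_zero fun α _ => ?_
      rw [sum_comm]
      refine sum_eq_zero fun β _ => ?_
      rw [sum_congr rfl (g := fun ψ : (P : Subgroup G) →* ℂˣ => ((ψ ((α : MulAut (P : Subgroup G)) t₀ *
        (β : MulAut (P : Subgroup G)) t₀ * y) : ℂˣ) : ℂ)) (fun ψ _ => by
          rw [map_mul, map_mul, Units.val_mul, Units.val_mul]), sum_hom_apply, if_neg]
      intro e
      have hinv : ∀ γ : autP P, ((γ : MulAut (P : Subgroup G)) t₀)⁻¹ = (γ : MulAut (P : Subgroup G)) t₀ :=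
        fun γ => inv_eq_of_mul_eq_one_right (by rw [← map_mul, ht₀, map_one])
      have := eq_inv_of_mul_eq_one_right e
      rw [mul_inv_rev, hinv, hinv] at this
      exact hno β β.2 α α.2 this.symm
    rw [← add_sum_erase _ _ (mem_univ (1 : (P : Subgroup G) →* ℂˣ))] at h0
    have h9 : Φ 1 = 9 := by
      simp only [Φ, MonoidHom.one_apply, Units.val_one, sum_const, card_univ, nsmul_eq_mul, mul_one,
        ← Nat.card_eq_fintype_card, card_autP hF, hm]
      norm_num
    rw [h9] at h0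
    rw [show ∑ ψ ∈ univ.erase (1 : (P : Subgroup G) →* ℂˣ), Φ ψ = -9 by linear_combination h0]
    ring
  have hEC : (E : ℂ) ≠ 0 := Int.cast_ne_zero.2 hE0.ne'
  have hAC : (A : ℂ) ≠ 0 := Int.cast_ne_zero.2 hA0.ne'
  have hBC : (B : ℂ) ≠ 0 := Int.cast_ne_zero.2 hB0.ne'
  have e2 : (A * B + D.a χA * B + D.a χB * A) * E = 9 * D.δ * (A * B) := by
    rw [sum_split hM D, hXsum, hY, trivIrr_apply, trivIrr_apply, trivIrr_apply, hA, hB,
      show w = (t₀ : G) from rfl, hval _ hmemA t₀ ht₀1, hval _ hmemB t₀ ht₀1, hval _ hmemA y hy,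
      hval _ hmemB y hy] at hvan
    field_simp at hvan
    apply Int.cast_injective (α := ℂ)
    push_cast
    rcases hAs with ea | ea <;> rcases hBs with eb | eb <;> rw [ea, eb] at hvan ⊢ <;>
      push_cast at hvan ⊢ <;> linear_combination hvan
  have hδ2 : D.δ * D.δ = 1 := by rcases D.sign with e | e <;> rw [e] <;> norm_num
  have e3 : (1 + D.a χA * A + D.a χB * B) * (A * B + D.a χA * B + D.a χB * A) = 9 * (A * B) := by
    rw [e1]
    linear_combination D.δ * e2 + 9 * (A * B) * hδ2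
  have hcong : ∀ χ ∈ D.X, D.a χ = -1 → 9 ≤ (charDegree (χ : G → ℂ) : ℤ) := by
    intro χ hχ ha
    have h := Int.le_of_dvd (by
      have := (charDegree_spec χ).2.1
      omega) (D.dvd χ hχ)
    omega
  have hkill : ∀ χ ∈ D.X, χ ≠ trivIrr G → D.a χ = 1 → (charDegree (χ : G → ℂ) : ℤ) ≠ 1 := by
    intro χ hχ hne ha h1
    refine apply_ne_one_of_gen hM hgen' χ hne ?_
    rw [show w = (t₀ : G) from rfl, hval χ hχ t₀ ht₀1, ha, (charDegree_spec χ).1,
      show (charDegree (χ : G → ℂ) : ℂ) = ((charDegree (χ : G → ℂ) : ℤ) : ℂ) by simp, h1]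
  rcases hAs with ea | ea <;> rcases hBs with eb | eb <;> rw [ea, eb] at e3
  · have hne := hkill χA hmemA hA1 ea
    have h1 := pow_two_pos_of_ne_zero (sub_ne_zero.2 hne)
    nlinarith [mul_nonneg hA0.le (sq_nonneg (B - 1)), mul_pos hB0 h1, sq_nonneg (A - B)]
  · exact false_of_mixed (A := A) (B := B) (by have := hcong χB hmemB eb; omega) hA0
      (by linear_combination e3)
  · exact false_of_mixed (A := B) (B := A) (by have := hcong χA hmemA ea; omega) hB0
      (by linear_combination e3)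
  · have hA9 := hcong χA hmemA ea
    have hB9 := hcong χB hmemB eb
    nlinarith [mul_pos hA0 hB0, mul_le_mul_of_nonneg_left hA9 hB0.le, mul_le_mul_of_nonneg_left hB9 hA0.le]

/-- The involution conclusion. -/
theorem signs_and_square (hm : m = 3) (D : ExcData p M P m) (hd : D.d = 0) {χA χB : IrrCharacter G}
    (hAB : χA ≠ χB) (hA1 : χA ≠ trivIrr G) (hB1 : χB ≠ trivIrr G)
    (hX : D.X = {trivIrr G, χA, χB}) (hAs : D.a χA = 1 ∨ D.a χA = -1)
    (hBs : D.a χB = 1 ∨ D.a χB = -1) {t : G} (hto : orderOf t = 2)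
    (hgen : ∀ K : Subgroup G, K.Normal → t ∈ K → K = ⊤) :
    (if D.a χA = -1 then 1 else 0) + (if D.a χB = -1 then 1 else 0) + (if D.δ = 1 then 1 else 0) = 2 ∧
      ∀ η ∈ D.Y, IsSquare (charDegree (η : G → ℂ) *
        (charDegree (χA : G → ℂ) * charDegree (χB : G → ℂ))) := by
  classical
  by_cases hp2 : p = 2
  · exact (false_of_two hF hM hm hp2 D hd hAB hA1 hB1 hX hAs hBs hto hgen).elim
  have ht : t * t = 1 := by rw [← pow_two, ← hto]; exact pow_orderOf_eq_one t
  have htreg : ¬ p ∣ orderOf t := by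
    rw [hto, Nat.prime_dvd_prime_iff_eq hp.out Nat.prime_two]; exact hp2
  have hone : ¬ p ∣ orderOf (1 : G) := by rw [orderOf_one]; exact hp.out.not_dvd_one
  have hr2 := D.two_le
  have hq := D.card_Y
  haveI : Nontrivial (P : Subgroup G) := Finite.one_lt_card_iff_nontrivial.1 (by
    have hmul : Nat.card D.Y * m = Nat.card D.Y * 3 := congrArg _ hm
    omega)
  obtain ⟨y, hy⟩ := exists_ne (1 : (P : Subgroup G))
  have hy' : (y : G) ≠ 1 := fun e => hy (Subtype.ext e)
  have hyne : y * y ≠ 1 := by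
    intro h
    have h2 : orderOf (y : G) ∣ 2 := orderOf_dvd_of_pow_eq_one (by rw [pow_two]; exact congrArg Subtype.val h)
    obtain ⟨k, hk⟩ := isPElem hF hM y.2
    rcases Nat.eq_zero_or_pos k with e | e
    · rw [e, pow_zero, orderOf_eq_one_iff] at hk; exact hy' hk
    · exact hp2 ((Nat.prime_dvd_prime_iff_eq hp.out Nat.prime_two).1
        ((dvd_pow_self p e.ne').trans (hk ▸ h2)))
  have hvan := sum_involution_eq_zero hF hM ht y.2 hy' fun x z hz hx hxz =>
    hyne (mul_self_of_conj_inv hF hm (isConj_iff.2 ⟨x, (conj_inv_of_pairs hF ht hz hx hxz).2⟩))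
  obtain ⟨η₀, hη₀⟩ : D.Y.Nonempty := Set.nonempty_coe_sort.1 (Nat.card_pos_iff.1 (by omega)).1
  obtain ⟨uA, huA⟩ := CfsgLib.BlockLocal.exists_int_apply_involution χA hto
  obtain ⟨uB, huB⟩ := CfsgLib.BlockLocal.exists_int_apply_involution χB hto
  obtain ⟨uE, huE⟩ := CfsgLib.BlockLocal.exists_int_apply_involution η₀ hto
  set A : ℤ := (charDegree (χA : G → ℂ) : ℤ)
  set B : ℤ := (charDegree (χB : G → ℂ) : ℤ)
  set E : ℤ := (charDegree (η₀ : G → ℂ) : ℤ)
  have hA : (χA : G → ℂ) 1 = (A : ℂ) := by rw [(charDegree_spec χA).1]; simp [A]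
  have hB : (χB : G → ℂ) 1 = (B : ℂ) := by rw [(charDegree_spec χB).1]; simp [B]
  have hE : (η₀ : G → ℂ) 1 = (E : ℂ) := by rw [(charDegree_spec η₀).1]; simp [E]
  have hA0 : 0 < A := Int.natCast_pos.2 (charDegree_spec χA).2.1
  have hB0 : 0 < B := Int.natCast_pos.2 (charDegree_spec χB).2.1
  have hE0 : 0 < E := Int.natCast_pos.2 (charDegree_spec η₀).2.1
  have hXsum : ∀ f : IrrCharacter G → ℂ, ∑ᶠ χ ∈ D.X, f χ = f (trivIrr G) + (f χA + f χB) := by
    intro f
    rw [hX, finsum_mem_insert f (by simp [Ne.symm hA1, Ne.symm hB1]) (Set.toFinite _),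
      finsum_mem_pair hAB]
  have hval : ∀ χ ∈ D.X, (χ : G → ℂ) y = (D.a χ : ℂ) := fun χ hχ =>
    D.val_X χ hχ y y (isPPart_self hF hM y.2) y.2 hy'
  have hmemA : χA ∈ D.X := by rw [hX]; simp
  have hmemB : χB ∈ D.X := by rw [hX]; simp
  have e1 : 1 + D.a χA * A + D.a χB * B + (-D.δ) * E = 0 := by
    have h := D.reg η₀ hη₀ 1 hone
    rw [hXsum, hd, D.a_triv, trivIrr_apply, hA, hB, hE] at h
    apply Int.cast_injective (α := ℂ)
    push_cast at h ⊢
    linear_combination h
  have e2 : 1 + D.a χA * uA + D.a χB * uB + (-D.δ) * uE = 0 := by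
    have h := D.reg η₀ hη₀ t htreg
    rw [hXsum, hd, D.a_triv, trivIrr_apply, huA, huB, huE] at h
    apply Int.cast_injective (α := ℂ)
    push_cast at h ⊢
    linear_combination h
  have hEC : (E : ℂ) ≠ 0 := Int.cast_ne_zero.2 hE0.ne'
  have hAC : (A : ℂ) ≠ 0 := Int.cast_ne_zero.2 hA0.ne'
  have hBC : (B : ℂ) ≠ 0 := Int.cast_ne_zero.2 hB0.ne'
  -- the exceptional column sum
  have hYy : ∑ᶠ χ ∈ D.Y, (χ : G → ℂ) y = -(D.δ : ℂ) := by
    have h := sum_reg_mul_conj hF hM hone y.2 hy'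
    rw [sum_split hM D, hXsum, trivIrr_apply, trivIrr_apply, map_one, hA, hB, hval _ hmemA,
      hval _ hmemB, map_intCast, map_intCast,
      finsum_mem_congr rfl (g := fun χ : IrrCharacter G => (E : ℂ) * conj ((χ : G → ℂ) y))
        (fun χ hχ => by rw [D.agree χ hχ η₀ hη₀ 1 hone, hE]),
      finsum_mem_eq_finite_toFinset_sum _ D.Y.toFinite, ← mul_sum,
      ← finsum_mem_eq_finite_toFinset_sum _ D.Y.toFinite] at h
    have e1' : (1 : ℂ) + (D.a χA : ℂ) * A + (D.a χB : ℂ) * B = (D.δ : ℂ) * E := by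
      have := congrArg (fun z : ℤ => (z : ℂ)) e1
      push_cast at this
      linear_combination this
    have h' : ∑ᶠ χ ∈ D.Y, conj ((χ : G → ℂ) y) = -(D.δ : ℂ) :=
      mul_left_cancel₀ hEC (by linear_combination h - e1')
    have := congrArg (starRingEnd ℂ) h'
    rw [finsum_mem_eq_finite_toFinset_sum _ D.Y.toFinite, map_sum, map_neg, map_intCast] at this
    simp only [Complex.conj_conj] at this
    rw [finsum_mem_eq_finite_toFinset_sum _ D.Y.toFinite]
    exact this
  have e3 : A * B * E + D.a χA * uA ^ 2 * (B * E) + D.a χB * uB ^ 2 * (A * E) +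
      (-D.δ) * uE ^ 2 * (A * B) = 0 := by
    rw [sum_split hM D, hXsum, trivIrr_apply, trivIrr_apply, trivIrr_apply, hA, hB, huA, huB,
      hval _ hmemA, hval _ hmemB,
      finsum_mem_congr rfl (g := fun χ : IrrCharacter G => (uE : ℂ) ^ 2 / E * (χ : G → ℂ) y)
        (fun χ hχ => by rw [D.agree χ hχ η₀ hη₀ 1 hone, D.agree χ hχ η₀ hη₀ t htreg, hE, huE]),
      finsum_mem_eq_finite_toFinset_sum _ D.Y.toFinite, ← mul_sum,
      ← finsum_mem_eq_finite_toFinset_sum _ D.Y.toFinite, hYy] at hvan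
    field_simp at hvan
    apply Int.cast_injective (α := ℂ)
    push_cast
    linear_combination hvan
  have hnk : ∀ χ : IrrCharacter G, χ ≠ trivIrr G → ∀ u D' : ℤ, (χ : G → ℂ) t = (u : ℂ) →
      (χ : G → ℂ) 1 = (D' : ℂ) → u ≠ D' := fun χ hne u D' h1 h2 e =>
    apply_ne_one_of_gen hM hgen χ hne (by rw [h1, h2, e])
  have hη₀1 : η₀ ≠ trivIrr G := fun e => Set.disjoint_left.1 D.disj D.triv (e ▸ hη₀)
  obtain ⟨hcount, hsq⟩ := two_negative hAs hBs
    (by rcases D.sign with e | e <;> rw [e] <;> norm_num) hA0 hB0 hE0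
    (hnk χA hA1 uA A huA hA) (hnk χB hB1 uB B huB hB) (hnk η₀ hη₀1 uE E huE hE) e1 e2 e3
  refine ⟨?_, fun η hη => ?_⟩
  · rcases D.sign with e | e <;> rw [e] at hcount ⊢ <;> simpa using hcount
  · have hdeg : charDegree (η : G → ℂ) = charDegree (η₀ : G → ℂ) := by
      unfold charDegree
      rw [D.agree η hη η₀ hη₀ 1 hone]
    rw [hdeg]
    obtain ⟨c, hc⟩ := hsq
    refine ⟨c.natAbs, ?_⟩
    have h := congrArg Int.natAbs hc
    rw [Int.natAbs_mul, Int.natAbs_mul, Int.natAbs_mul] at h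
    simp only [A, B, E, Int.natAbs_natCast] at h
    rw [← h]
    ring

end CfsgLib.BlockSections.Exceptional
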