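import Cfsg.Agent.Lib.BlockSections.Exceptional
import Cfsg.Agent.Lib.BlockLocal.KleinFour

/-!
# The principal block for a fixed-point-free normalizer action of order three

When `N(P)/C(P)` has order three the shift of the exceptional family can be taken to be zero,
and an involution outside every proper normal subgroup makes exactly two signs negative and the
product of the three nontrivial degrees a square.
-/

set_option autoImplicit false
set_option linter.unusedSectionVars false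
set_option linter.style.haveILetI false

namespace CfsgLib.BlockSections.Exceptional

open Cfsg CfsgLib.CharTheory CfsgLib.Blocks CfsgLib.BrauerCharacters CfsgLib.BlockSections Finset
open scoped ComplexConjugate

/-- One negative sign is impossible. -/
theorem false_of_one_negative {Di Dj Dk ui uj uk : ℤ} (hi : 0 < Di) (hj : 0 < Dj)
    (hne : ui ≠ Di) (h1 : Dk = 1 + Di + Dj) (h2 : uk = 1 + ui + uj)
    (h3 : uk ^ 2 * (Di * Dj) = Dk * (Di * Dj + ui ^ 2 * Dj + uj ^ 2 * Di)) : False := by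
  have h : Dj * (Di - ui) ^ 2 + Di * (Dj - uj) ^ 2 + (ui * Dj - uj * Di) ^ 2 = 0 := by
    subst h1 h2; linear_combination -h3
  have := pow_two_pos_of_ne_zero (sub_ne_zero.2 hne.symm)
  nlinarith [mul_pos hj this, mul_nonneg hi.le (sq_nonneg (Dj - uj)),
    sq_nonneg (ui * Dj - uj * Di)]

/-- Two negative signs force a square. -/
theorem isSquare_of_two_negative {Di Dj Dk ui uj uk : ℤ}
    (hne : uk ≠ Dk) (h1 : Di + Dj = 1 + Dk) (h2 : ui + uj = 1 + uk)
    (h3 : Dk * (ui ^ 2 * Dj + uj ^ 2 * Di) = Di * Dj * (Dk + uk ^ 2)) :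
    IsSquare (Di * Dj * Dk) := by
  have h : Di * Dj * Dk * (Dk - uk) ^ 2 = (Dk * (ui * Dj - uj * Di)) ^ 2 := by
    have hA : (Di + Dj) * (Dk * (ui ^ 2 * Dj + uj ^ 2 * Di)) =
        (1 + Dk) * (Di * Dj * (Dk + uk ^ 2)) := by rw [h1, h3]
    have hB : (ui + uj) ^ 2 = (1 + uk) ^ 2 := by rw [h2]
    linear_combination (-Dk) * hA + (Dk * Dk * Di * Dj) * hB
  have hd : Dk - uk ∣ Dk * (ui * Dj - uj * Di) :=
    (Int.pow_dvd_pow_iff two_ne_zero).1 ⟨_, h.symm.trans (mul_comm _ _)⟩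
  obtain ⟨c, hc⟩ := hd
  rw [hc, mul_pow, mul_comm] at h
  exact ⟨c, by rw [← sq]; exact mul_left_cancel₀ (pow_ne_zero 2 (sub_ne_zero.2 hne.symm)) h⟩

/-- The signs and degrees. -/
theorem two_negative {c₁ c₂ c₃ D₁ D₂ D₃ u₁ u₂ u₃ : ℤ} (hc₁ : c₁ = 1 ∨ c₁ = -1)
    (hc₂ : c₂ = 1 ∨ c₂ = -1) (hc₃ : c₃ = 1 ∨ c₃ = -1) (hD₁ : 0 < D₁) (hD₂ : 0 < D₂) (hD₃ : 0 < D₃)
    (h₁ : u₁ ≠ D₁) (h₂ : u₂ ≠ D₂) (h₃ : u₃ ≠ D₃)
    (e1 : 1 + c₁ * D₁ + c₂ * D₂ + c₃ * D₃ = 0) (e2 : 1 + c₁ * u₁ + c₂ * u₂ + c₃ * u₃ = 0)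
    (e3 : D₁ * D₂ * D₃ + c₁ * u₁ ^ 2 * (D₂ * D₃) + c₂ * u₂ ^ 2 * (D₁ * D₃) +
      c₃ * u₃ ^ 2 * (D₁ * D₂) = 0) :
    (if c₁ = -1 then 1 else 0) + (if c₂ = -1 then 1 else 0) + (if c₃ = -1 then 1 else 0) = 2 ∧
      IsSquare (D₁ * D₂ * D₃) := by
  rcases hc₁ with rfl | rfl <;> rcases hc₂ with rfl | rfl <;> rcases hc₃ with rfl | rfl
  · omega
  · exact (false_of_one_negative hD₁ hD₂ h₁ (Dk := D₃) (uk := u₃) (uj := u₂) (by linarith) (by linarith)
      (by linear_combination -e3)).elim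
  · exact (false_of_one_negative hD₁ hD₃ h₁ (Dk := D₂) (uk := u₂) (uj := u₃) (by linarith) (by linarith)
      (by linear_combination -e3)).elim
  · exact ⟨by norm_num, (show D₂ * D₃ * D₁ = D₁ * D₂ * D₃ by ring) ▸
      isSquare_of_two_negative (ui := u₂) (uj := u₃) h₁ (by linarith) (by linarith)
        (by linear_combination -e3)⟩
  · exact (false_of_one_negative hD₂ hD₃ h₂ (Dk := D₁) (uk := u₁) (uj := u₃) (by linarith) (by linarith)
      (by linear_combination -e3)).elim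
  · exact ⟨by norm_num, (show D₁ * D₃ * D₂ = D₁ * D₂ * D₃ by ring) ▸
      isSquare_of_two_negative (ui := u₁) (uj := u₃) h₂ (by linarith) (by linarith)
        (by linear_combination -e3)⟩
  · exact ⟨by norm_num, isSquare_of_two_negative (ui := u₁) (uj := u₂) h₃ (by linarith) (by linarith)
        (by linear_combination -e3)⟩
  · omega

/-- The arithmetic excluding `p = 2`. -/
theorem false_of_mixed {A B : ℤ} (hB : 7 ≤ B) (hA : 0 < A)
    (h : A * (A * (B - 1) - (B ^ 2 + 6 * B + 1)) = B * (B - 1)) : False := by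
  by_cases hle : A ≤ B + 8
  · have h1 : A * (B - 1) - (B ^ 2 + 6 * B + 1) ≤ B - 9 := by nlinarith
    by_cases h9 : B ≤ 9
    · nlinarith
    · nlinarith
  · have h1 : 2 * B - 10 ≤ A * (B - 1) - (B ^ 2 + 6 * B + 1) := by nlinarith
    nlinarith

variable {G : Type*} [Group G] [Fintype G] {p : ℕ} [hp : Fact p.Prime] {M : Ideal AlgInt}
  {P : Sylow p G}

open scoped Classical in
theorem sum_hom_fibre (D : ExcData p M P 3) {ψ : (P : Subgroup G) →* ℂˣ} (hψ : ψ ≠ 1)
    [Fintype ((P : Subgroup G) →* ℂˣ)] (y : (P : Subgroup G)) :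
    ∑ᶠ ψ' ∈ {ψ' | NRel P ψ ψ'}, ((ψ' y : ℂˣ) : ℂ) =
      ∑ x ∈ univ.filter (fun x => x ≠ 1 ∧ D.ζ x = D.ζ ψ), (x y : ℂ) := by
  rw [finsum_mem_eq_finite_toFinset_sum _ (Set.toFinite _)]
  refine sum_congr (Finset.ext fun x => ?_) fun _ _ => rfl
  simp only [mem_filter, mem_univ, true_and, Set.Finite.mem_toFinset, Set.mem_ofPred_eq]
  constructor
  · intro h
    have h1 : x ≠ 1 := by
      obtain ⟨α, -, hα⟩ := h
      rintro rfl
      exact hψ (hα.symm.trans (MonoidHom.ext fun _ => rfl))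
    exact ⟨h1, (D.ζ_eq ψ x hψ h1).2 h⟩
  · exact fun h => (D.ζ_eq ψ x hψ h.1).1 h.2

/-- The normalised structure: no shift, three constant rows. -/
theorem exists_zeroShift (hab : IsMulCommutative (P : Subgroup G)) (D : ExcData p M P 3) :
    ∃ D' : ExcData p M P 3, D'.d = 0 := by
  classical
  by_cases hd : D.d = 0
  · exact ⟨D, hd⟩
  haveI := Fintype.ofFinite ((P : Subgroup G) →* ℂˣ)
  haveI := hab
  letI : CommGroup (P : Subgroup G) := { mul_comm := mul_comm' }
  set r := Nat.card D.Y with hr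
  have hr2 := D.two_le
  set S := ∑ᶠ χ ∈ D.X, D.a χ ^ 2 with hS
  have hnorm := D.norm
  have hXsum : S = ∑ χ ∈ D.X.toFinite.toFinset, D.a χ ^ 2 := finsum_mem_eq_finite_toFinset_sum _ _
  have hS1 : 1 ≤ S := by
    rw [hXsum]
    have := single_le_sum (f := fun χ => D.a χ ^ 2) (fun χ _ => sq_nonneg (D.a χ))
      (show trivIrr G ∈ D.X.toFinite.toFinset by simpa using D.triv)
    simpa [D.a_triv] using this
  rw [← hr, ← hS] at hnorm
  have hd2 : 1 ≤ D.d ^ 2 := pow_two_pos_of_ne_zero hd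
  have hr2' : (2 : ℤ) ≤ r := by exact_mod_cast hr2
  have hmul := mul_nonneg (show (0 : ℤ) ≤ r - 2 by linarith) (sq_nonneg D.d)
  push_cast at hnorm
  have hd1 : D.d ^ 2 ≤ 3 := by nlinarith [sq_nonneg (D.d - D.δ)]
  have hdu : -1 ≤ D.d ∧ D.d ≤ 1 := ⟨by nlinarith, by nlinarith⟩
  have hdδ : D.d = D.δ := by
    rcases D.sign with e | e <;> rcases (show D.d = 1 ∨ D.d = -1 by omega) with e' | e' <;>
      rw [e, e'] at hnorm <;> rw [e, e'] <;> norm_num at hnorm ⊢ <;> omega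
  have hδ2 : D.δ ^ 2 = 1 := by rcases D.sign with e | e <;> rw [e] <;> norm_num
  rw [hdδ, sub_self, hδ2] at hnorm
  norm_num at hnorm
  have hq := D.card_Y
  obtain ⟨k, hk⟩ := IsPGroup.iff_card.1 P.2
  have hreg1 : ∀ η ∈ D.Y, ((r : ℂ) * D.d - D.δ) * (charDegree (η : G → ℂ) : ℂ) +
      ∑ᶠ χ ∈ D.X, (D.a χ : ℂ) * (charDegree (χ : G → ℂ) : ℂ) = 0 := by
    intro η hη
    simpa only [(charDegree_spec _).1] using
      D.reg η hη 1 (by rw [orderOf_one]; exact hp.out.not_dvd_one)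
  have hr4 : r ≠ 4 := by
    intro h4
    rw [h4] at hnorm hreg1
    have hX : D.X = {trivIrr G} := by
      refine Set.eq_singleton_iff_unique_mem.2 ⟨D.triv, fun χ hχ => ?_⟩
      by_contra hne
      have h := sum_le_sum_of_subset_of_nonneg (f := fun χ => D.a χ ^ 2)
        (show ({χ, trivIrr G} : Finset (IrrCharacter G)) ⊆ D.X.toFinite.toFinset by
          intro i hi
          simp only [mem_insert, mem_singleton] at hi
          rcases hi with rfl | rfl <;> simpa using by first | exact hχ | exact D.triv)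
        fun i _ _ => sq_nonneg _
      rw [sum_pair hne, ← hXsum, D.a_triv] at h
      have := pow_two_pos_of_ne_zero (D.a_ne χ hχ)
      push_cast at hnorm
      omega
    obtain ⟨η, hη⟩ : D.Y.Nonempty := by
      rw [Set.nonempty_iff_ne_empty]; intro e; simp [hr, e] at h4
    have h := hreg1 η hη
    rw [hX, finsum_mem_singleton, D.a_triv, hdδ] at h
    have h1 : (charDegree (trivIrr G : G → ℂ)) = 1 := by simp [charDegree, trivIrr_apply]
    rw [h1] at h
    have h' : ((4 * D.δ - D.δ) * (charDegree (η : G → ℂ) : ℤ) + 1 : ℤ) = 0 := by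
      apply Int.cast_injective (α := ℂ)
      push_cast at h ⊢
      linear_combination h
    rcases D.sign with e | e <;> rw [e] at h' <;> omega
  have hr3 : r ≠ 3 := by
    intro h3
    have h2 : 2 ∣ p ^ k := by rw [← hk, ← hq, ← hr, h3]; norm_num
    have h5 : 5 ∣ p ^ k := by rw [← hk, ← hq, ← hr, h3]; norm_num
    have e2 := (Nat.prime_dvd_prime_iff_eq Nat.prime_two hp.out).1 (Nat.prime_two.dvd_of_dvd_pow h2)
    have e5 := (Nat.prime_dvd_prime_iff_eq (by norm_num) hp.out).1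
      ((show Nat.Prime 5 by norm_num).dvd_of_dvd_pow h5)
    omega
  have hr' : r = 2 := by
    have : (r : ℤ) ≤ 4 := by linarith
    omega
  obtain ⟨η₁, η₂, hne, hY⟩ := Set.ncard_eq_two.1 ((Nat.card_coe_set_eq D.Y).symm.trans (hr ▸ hr'))
  have hswap : ∀ η ∈ D.Y, Equiv.swap η₁ η₂ η ∈ D.Y ∧ Equiv.swap η₁ η₂ η ≠ η := by
    intro η hη
    rw [hY] at hη ⊢
    rcases hη with rfl | rfl
    · simp [hne.symm]
    · simp [hne]
  refine ⟨{
    X := D.X, Y := D.Y, a := D.a, d := 0, δ := -D.δ, ζ := fun ψ => Equiv.swap η₁ η₂ (D.ζ ψ)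
    union := D.union, disj := D.disj, triv := D.triv, a_triv := D.a_triv
    sign := by rcases D.sign with e | e <;> rw [e] <;> norm_num
    a_ne := D.a_ne, val_X := D.val_X
    ζ_mem := fun ψ hψ => (hswap _ (D.ζ_mem ψ hψ)).1
    ζ_surj := ?_, ζ_eq := ?_, val_Y := ?_, card_Y := D.card_Y, two_le := D.two_le
    norm := ?_, agree := D.agree, reg := ?_, dvd := D.dvd }, rfl⟩
  · intro η hη
    obtain ⟨ψ, hψ, he⟩ := D.ζ_surj _ (hswap η hη).1
    exact ⟨ψ, hψ, by rw [he, Equiv.swap_apply_self]⟩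
  · intro ψ ψ' h h'
    rw [(Equiv.swap η₁ η₂).injective.eq_iff]
    exact D.ζ_eq ψ ψ' h h'
  · intro ψ hψ z y hz hy
    obtain ⟨hmem, hne'⟩ := hswap _ (D.ζ_mem ψ hψ)
    obtain ⟨ψ', hψ', he⟩ := D.ζ_surj _ hmem
    rw [← he, D.val_Y ψ' hψ' z y hz hy, sum_hom_fibre D hψ y, sum_hom_fibre D hψ' y]
    have hy' : y ≠ 1 := fun e => hy (by rw [e]; rfl)
    have h := sum_hom_apply (H := (P : Subgroup G)) y
    rw [if_neg hy', ← add_sum_erase _ _ (mem_univ (1 : (P : Subgroup G) →* ℂˣ)), MonoidHom.one_apply,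
      Units.val_one, ← sum_filter_add_sum_filter_not (univ.erase (1 : (P : Subgroup G) →* ℂˣ))
        (fun x => D.ζ x = D.ζ ψ)] at h
    have e1 : (univ.erase (1 : (P : Subgroup G) →* ℂˣ)).filter (fun x => D.ζ x = D.ζ ψ) =
        univ.filter (fun x => x ≠ 1 ∧ D.ζ x = D.ζ ψ) := by ext x; simp [and_comm]
    have e2 : (univ.erase (1 : (P : Subgroup G) →* ℂˣ)).filter (fun x => ¬ D.ζ x = D.ζ ψ) =
        univ.filter (fun x => x ≠ 1 ∧ D.ζ x = D.ζ ψ') := by
      ext x
      simp only [mem_filter, mem_erase, mem_univ, and_true, true_and]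
      refine and_congr_right fun hx => ⟨fun hxne => ?_, fun e e' => hne' ?_⟩
      · have hm := D.ζ_mem x hx
        rw [he]
        have hm' := D.ζ_mem ψ hψ
        rw [hY] at hm hm'
        rcases hm with hm | hm <;> rcases hm' with hm' | hm' <;>
          first | exact absurd (hm.trans hm'.symm) hxne | (rw [hm, hm']; simp)
      · rw [← he, ← e, e']
    rw [e1, e2] at h
    have hδ : (D.d : ℂ) = (D.δ : ℂ) := by rw [hdδ]
    push_cast
    rw [hδ]
    linear_combination (D.δ : ℂ) * h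
  · rw [← hr, ← hS, hr']
    rw [hr'] at hnorm
    rw [zero_sub, neg_neg, hδ2]
    push_cast at hnorm ⊢
    linarith
  · intro η hη g hg
    have h := D.reg η hη g hg
    rw [← hr, hr', hdδ] at h
    rw [← hr, hr']
    push_cast at h ⊢
    linear_combination h

/-- With no shift there are exactly three constant rows, all signs. -/
theorem card_X_three (D : ExcData p M P 3) (hd : D.d = 0) :
    Nat.card D.X = 3 ∧ ∀ χ ∈ D.X, D.a χ = 1 ∨ D.a χ = -1 := by
  classical
  have h := D.norm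
  rw [hd, finsum_mem_eq_finite_toFinset_sum _ D.X.toFinite] at h
  have h3 : ∑ χ ∈ D.X.toFinite.toFinset, D.a χ ^ 2 = 3 := by
    rcases D.sign with e | e <;> rw [e] at h <;> norm_num at h <;> linarith
  have hsign : ∀ χ ∈ D.X, D.a χ = 1 ∨ D.a χ = -1 := by
    intro χ hχ
    have h1 := single_le_sum (f := fun χ => D.a χ ^ 2) (fun χ _ => sq_nonneg (D.a χ))
      (show χ ∈ D.X.toFinite.toFinset by simpa using hχ)
    rw [h3] at h1
    have hle : D.a χ ≤ 1 := by nlinarith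
    have hge : -1 ≤ D.a χ := by nlinarith
    have := D.a_ne χ hχ
    omega
  refine ⟨?_, hsign⟩
  rw [sum_congr rfl (g := fun _ => (1 : ℤ)) (fun χ hχ => by
    rcases hsign χ (by simpa using hχ) with e | e <;> rw [e] <;> norm_num), sum_const, nsmul_eq_mul,
    mul_one, ← Set.ncard_eq_toFinset_card, ← Nat.card_coe_set_eq] at h3
  exact_mod_cast h3

end CfsgLib.BlockSections.Exceptional
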