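import Cfsg.Agent.Lib.BlockSections.Bounds

/-!
# Subsections for the prime two

The mean of a diagonal entry is an integer, odd for characters of height zero.
-/

set_option autoImplicit false
set_option linter.style.haveILetI false
set_option linter.unusedSectionVars false

namespace CfsgLib.BlockSections

open Cfsg CfsgLib.CharTheory CfsgLib.Blocks CfsgLib.BrauerCharacters CfsgLib.Jordan Finset
open scoped ComplexConjugate

/-- A sum over pairs of a symmetric function vanishing on the diagonal is even. -/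
theorem two_dvd_sum_symm {α : Type*} (s : Finset α) (f : α → α → ℤ) (hs : ∀ a b, f a b = f b a)
    (hd : ∀ a, f a a = 0) : (2 : ℤ) ∣ ∑ a ∈ s, ∑ b ∈ s, f a b := by
  rw [← Nat.cast_ofNat, ← ZMod.intCast_zmod_eq_zero_iff_dvd, Int.cast_sum]
  simp only [Int.cast_sum]
  rw [← sum_product']
  refine sum_involution (fun x _ => x.swap) (fun x _ => ?_) (fun x _ hne he => hne ?_)
    (fun x hx => ?_) (fun x _ => x.swap_swap)
  · rw [Prod.fst_swap, Prod.snd_swap, hs x.2 x.1, CharTwo.add_self_eq_zero]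
  · have : x.2 = x.1 := congrArg Prod.fst he
    rw [this, hd, Int.cast_zero]
  · simp only [mem_product] at hx ⊢
    exact ⟨hx.2, hx.1⟩

variable {G : Type*} [Group G] [Fintype G] (y : G)
  [Fintype (Subgroup.centralizer ({y} : Set G))]
  (b : Set (IrrCharacter (Subgroup.centralizer ({y} : Set G))))
  {M : Ideal AlgInt} [M.IsPrime] (hM : IsPModular 2 M) {B : Set (IrrCharacter G)}
  (hy : ∃ k : ℕ, orderOf y = 2 ^ k)
  (hind : IsInducedBlock M (Subgroup.centralizer ({y} : Set G)) b B)

include hy in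
theorem exists_orderOf_cenElem : ∃ k : ℕ, orderOf (cenElem y) = 2 ^ k := by
  obtain ⟨k, hk⟩ := hy
  exact ⟨k, by rw [← Subgroup.orderOf_coe]; exact hk⟩

include hy in
theorem exists_int_diagSum (χ : IrrCharacter G) :
    ∃ z : ℤ, diagSum y b 2 χ = conjCount y * z := by
  obtain ⟨k, hk⟩ := exists_orderOf_cenElem y hy
  haveI : Fact (Nat.Prime 2) := ⟨Nat.prime_two⟩
  exact exists_int_galSum hk (isIntegral_secX y b χ χ)

include hy in
theorem diagSum_eq_rootTr (χ : IrrCharacter G) :
    diagSum y b 2 χ = conjCount y * ((∑ ξ ∈ blockFinset b, ∑ η ∈ blockFinset b,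
      secCoeff y b 2 χ χ ξ η * rootTr ((cv y ξ * cv' y η : secField y) : ℂ) : ℤ) : ℝ) := by
  obtain ⟨k, hk⟩ := exists_orderOf_cenElem y hy
  have h : ∑ σ : Gal (orderOf (cenElem y)), ((σ (secX y b 2 χ χ) : secField y) : ℂ) =
      (Fintype.card (Gal (orderOf (cenElem y))) : ℂ) * ((∑ ξ ∈ blockFinset b, ∑ η ∈ blockFinset b,
        secCoeff y b 2 χ χ ξ η * rootTr ((cv y ξ * cv' y η : secField y) : ℂ) : ℤ) : ℂ) := by
    simp only [secX, map_sum, AddSubmonoidClass.coe_finsetSum]
    rw [sum_comm]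
    push_cast
    rw [mul_sum]
    refine sum_congr rfl fun ξ _ => ?_
    rw [sum_comm, mul_sum]
    refine sum_congr rfl fun η _ => ?_
    simp only [map_mul, map_intCast]
    rw [sum_congr rfl (g := fun σ : Gal (orderOf (cenElem y)) => (secCoeff y b 2 χ χ ξ η : ℂ) *
      ((σ (cv y ξ * cv' y η) : secField y) : ℂ)) (fun σ _ => by
        rw [MulMemClass.coe_mul, map_mul]
        congr 1), ← mul_sum,
      sum_conjugates_root (w := cv y ξ * cv' y η) hk (by
        rw [MulMemClass.coe_mul, mul_pow, coe_cv, coe_cv', centralVal_pow, ← map_pow, centralVal_pow,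
          map_one, one_mul]), MulMemClass.coe_mul]
    ring
  rw [diagSum, galSum, ← Complex.re_sum, h]
  simp [galCard]

include hM hy hind in
theorem odd_of_height_zero {χ : IrrCharacter G} (hχ : χ ∈ B)
    (hχ0 : blockHeight 2 B (χ : G → ℂ) = 0) :
    ∃ z : ℤ, Odd z ∧ diagSum y b 2 χ = conjCount y * z := by
  haveI : Fact (Nat.Prime 2) := ⟨Nat.prime_two⟩
  refine ⟨_, ?_, diagSum_eq_rootTr y b hy χ⟩
  have hodd : ¬ (2 : ℤ) ∣ ∑ ξ ∈ blockFinset b, ∑ η ∈ blockFinset b, secCoeff y b 2 χ χ ξ η :=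
    not_dvd_secCoeff y b hM hy hind hχ hχ0 hχ hχ0
  rw [← Int.not_even_iff_odd, even_iff_two_dvd]
  intro h
  refine hodd ((dvd_sub_right h).1 ?_)
  simp only [← sum_sub_distrib]
  refine two_dvd_sum_symm _ (fun ξ η => secCoeff y b 2 χ χ ξ η * rootTr ((cv y ξ * cv' y η : secField y) : ℂ) -
    secCoeff y b 2 χ χ ξ η) (fun ξ η => ?_) (fun ξ => ?_)
  · have e : ((cv y η * cv' y ξ : secField y) : ℂ) = conj ((cv y ξ * cv' y η : secField y) : ℂ) := by
      simp only [MulMemClass.coe_mul, map_mul, coe_cv, coe_cv', Complex.conj_conj]; ring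
    have es : secCoeff y b 2 χ χ η ξ = secCoeff y b 2 χ χ ξ η := by
      rw [secCoeff, secCoeff, regEntry_comm η ξ]; ring
    rw [e, rootTr_conj, es]
  · have hnorm := norm_eq_one_of_pow_eq_one' (isOfFinOrder_of_finite _).orderOf_pos.ne'
      (centralVal_pow y ξ)
    rw [show ((cv y ξ * cv' y ξ : secField y) : ℂ) = 1 by
      rw [MulMemClass.coe_mul, coe_cv, coe_cv', Complex.mul_conj', hnorm]; simp, rootTr_one]
    simp

include hM hy hind in
/-- The characters of height zero against the rank of a subsection. -/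
theorem height_zero_bounds :
    (Odd (Nat.sqrt (blockRank 2 b)) →
      Nat.card {χ : IrrCharacter G // χ ∈ B ∧ blockHeight 2 B (χ : G → ℂ) = 0} ≤
        Nat.sqrt (blockRank 2 b) * 2 ^ blockDefect 2 b) ∧
    (¬ Odd (Nat.sqrt (blockRank 2 b)) →
      (Nat.sqrt (blockRank 2 b) + 1) *
        Nat.card {χ : IrrCharacter G // χ ∈ B ∧ blockHeight 2 B (χ : G → ℂ) = 0} ≤
          blockRank 2 b * 2 ^ blockDefect 2 b) := by
  classical
  haveI : Fact (Nat.Prime 2) := ⟨Nat.prime_two⟩
  set T := 2 ^ blockDefect 2 b with hT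
  set l := blockRank 2 b
  set s := Nat.sqrt l with hs
  set S := (blockFinset B).filter fun φ : IrrCharacter G => blockHeight 2 B (φ : G → ℂ) = 0
  have hS : Nat.card {φ : IrrCharacter G // φ ∈ B ∧ blockHeight 2 B (φ : G → ℂ) = 0} = S.card :=
    Nat.subtype_card S fun φ => by simp [S]
  have hN := galCard_pos (orderOf (cenElem y))
  have key : ∀ a : ℕ, (S.card ≤ T * a) ∨ ((a + 1) * S.card ≤ T * l ∧ (Odd a → (a + 2) * S.card ≤ T * l)) := by
    intro a
    by_cases h : ∃ χ ∈ S, diagSum y b 2 χ ≤ (a : ℝ) * conjCount y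
    · left
      obtain ⟨χ, hχ, hle⟩ := h
      obtain ⟨h1, h2⟩ := mem_filter.1 hχ
      have h3 := card_height_zero_mul_le (p := 2) y b hM hy hind (mem_blockFinset.1 h1) h2
      rw [hS] at h3
      have h4 : (S.card : ℝ) * conjCount y ≤ ((T * a : ℕ) : ℝ) * conjCount y := by
        refine h3.trans ?_
        rw [hT]; push_cast; rw [mul_assoc]
        exact mul_le_mul_of_nonneg_left hle (by positivity)
      exact_mod_cast le_of_mul_le_mul_right h4 hN
    · right
      push Not at h
      have htot : ∑ χ ∈ S, diagSum y b 2 χ ≤ ((T * l : ℕ) : ℝ) * conjCount y := by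
        rw [hT, ← sum_diagSum y b hM hy hind]
        refine sum_le_sum_of_subset_of_nonneg (filter_subset _ _) fun χ _ _ => ?_
        refine sum_nonneg fun σ _ => ?_
        rw [← (totNonneg_secX y b hM hy hind χ).norm_eq]
        exact norm_nonneg _
      have hc : ∀ c : ℕ, (∀ χ ∈ S, (c : ℝ) * conjCount y ≤ diagSum y b 2 χ) → c * S.card ≤ T * l := by
        intro c hc
        have h4 : ((c * S.card : ℕ) : ℝ) * conjCount y ≤ ((T * l : ℕ) : ℝ) * conjCount y := by
          refine le_trans ?_ htot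
          refine le_trans (le_of_eq ?_) (sum_le_sum hc)
          rw [sum_const, nsmul_eq_mul]; push_cast; ring
        exact_mod_cast le_of_mul_le_mul_right h4 hN
      have hz : ∀ χ ∈ S, ∃ z : ℤ, Odd z ∧ diagSum y b 2 χ = conjCount y * z ∧ (a : ℤ) < z := fun χ hχ => by
        obtain ⟨z, hzo, hz⟩ := odd_of_height_zero y b hM hy hind (mem_blockFinset.1 (mem_filter.1 hχ).1)
          (mem_filter.1 hχ).2
        have hlt := h χ hχ
        rw [hz, mul_comm (conjCount y)] at hlt
        exact ⟨z, hzo, hz, by exact_mod_cast lt_of_mul_lt_mul_right hlt hN.le⟩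
      constructor
      · refine hc _ fun χ hχ => ?_
        obtain ⟨z, -, hz1, hz2⟩ := hz χ hχ
        rw [hz1, mul_comm (conjCount y)]
        exact mul_le_mul_of_nonneg_right (by exact_mod_cast hz2) hN.le
      · intro ha
        refine hc _ fun χ hχ => ?_
        obtain ⟨z, hzo, hz1, hz2⟩ := hz χ hχ
        rw [hz1, mul_comm (conjCount y)]
        refine mul_le_mul_of_nonneg_right ?_ hN.le
        obtain ⟨u, rfl⟩ := hzo
        obtain ⟨v, rfl⟩ := ha
        have : ((2 * v + 1 + 2 : ℕ) : ℤ) ≤ 2 * u + 1 := by push_cast at hz2 ⊢; omega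
        exact_mod_cast this
  have hl1 : s * s ≤ l := Nat.sqrt_le l
  have hl2 : l < (s + 1) * (s + 1) := Nat.lt_succ_sqrt l
  rw [hS]
  constructor
  · intro hodd
    rcases key s with h | ⟨-, h⟩
    · linarith
    · have := h hodd
      nlinarith
  · intro hev
    rcases Nat.eq_zero_or_pos s with h0 | h0
    · have : l = 0 := by rw [h0] at hl2; omega
      rw [this]
      rcases key 0 with h | ⟨h, -⟩ <;> · rw [h0]; simp_all
    obtain ⟨v, hv⟩ : ∃ v, s = v + 1 := ⟨s - 1, by omega⟩
    have hvodd : Odd v := by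
      rw [hv, Nat.odd_add_one, not_not] at hev
      exact hev
    rcases key v with h | ⟨-, h⟩
    · rw [hv] at hl1 ⊢
      nlinarith
    · have := h hvodd
      rw [hv]; nlinarith

end CfsgLib.BlockSections
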